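import Groth.Prelude.Def_AlgGrp
import Groth.Agent.Sga7.H496.SeeSaw
import Groth.Agent.Ega1.AmpFam
import Groth.Agent.Ega2.AmpleWeight
import Groth.Agent.Ega2.AmpleUnit
import Groth.Agent.S2329
import Groth.Agent.S4107
import Groth.Agent.Sga3.H821.ExtAffine
import Groth.Agent.Sga3B.RG.BrPts
import Groth.Agent.Books.BorelOrb
import Groth.Agent.Etcore.SmoothRed
import Groth.Agent.Sga3C.GeomRedPerf
import Groth.Agent.Fdesc.GeomAlgClosed
import Groth.Agent.Agf.H587.ProperQuot
import Groth.Agent.Ega3B.ProjProper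
import Groth.Agent.S4106
import Groth.Prelude.Def_RelProj

/-!
# Actions of anti-affine groups fixing an ample class

* `act_eq_snd_of_ample`: over an algebraically closed field, an action of an anti-affine group on a proper integral
  scheme fixing an ample class is trivial.
-/

set_option autoImplicit false
universe u
open CategoryTheory MonoidalCategory CartesianMonoidalCategory MonObj GrpObj AlgebraicGeometry
open CategoryTheory.Limits

namespace K409.AmpleFix

open Groth.Agent Groth.Agent.Grpsch.PicGrp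
open Groth.Agent.Books.BorelOrb

/-- Two sections of mutually inverse invertible modules on a scheme whose ring of functions is a field, with a common
point in their generating loci, are nowhere vanishing. -/
lemma genLocus_eq_top_of_inv {Y : Scheme.{u}} (hΓ : IsField Γ(Y, ⊤)) {N N' : Y.Modules}
    (hN : PicF.IsInvertible N) (hN' : PicF.IsInvertible N') (h : mk N hN * mk N' hN' = 1)
    (s : Coh.structureModule Y ⟶ N) (t : Coh.structureModule Y ⟶ N') (y : Y)
    (hy : y ∈ CohB1.genLocus N s) (hy' : y ∈ CohB1.genLocus N' t) : CohB1.genLocus N s = ⊤ := by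
  rw [mk_mul_mk, mk_eq_one_iff] at h
  obtain ⟨e⟩ := h
  obtain ⟨r, hr⟩ := Ega2.Weight.exists_genLocus_tensorPow_structureModule (X := Y) 0
    (Ega2.Weight.tmulHom s t ≫ e.hom)
  have h1 : CohB1.genLocus N s ⊓ CohB1.genLocus N' t = Y.basicOpen r := by
    rw [← Ega2.Weight.genLocus_tmulHom hN hN' s t, ← hr]
    exact (S2329.genLocus_comp_iso e _).symm
  have h2 : y ∈ Y.basicOpen r := by rw [← h1]; exact ⟨hy, hy'⟩
  have h3 : IsUnit r := by
    by_contra hu
    have h4 : r = 0 := by
      by_contra h5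
      obtain ⟨b, hb⟩ := hΓ.mul_inv_cancel h5
      exact hu (IsUnit.of_mul_eq_one b hb)
    rw [h4, Scheme.basicOpen_zero] at h2
    exact h2
  rw [Scheme.basicOpen_of_isUnit _ h3] at h1
  exact top_le_iff.1 (h1.symm.le.trans inf_le_left)

variable {k : Type u} [Field k] [IsAlgClosed k]

/-- Rational points are dense. -/
lemma dense_points (M : Over (Spec (CommRingCat.of k))) [LocallyOfFiniteType M.hom] :
    Dense {x : M.left | ∃ w : 𝟙_ (Over (Spec (CommRingCat.of k))) ⟶ M, x ∈ Set.range w.left} := by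
  have hJ : JacobsonSpace M.left := LocallyOfFiniteType.jacobsonSpace M.hom
  have h1 : Dense (closedPoints M.left) := by
    rw [dense_iff_closure_eq, closure_closedPoints]
  refine h1.mono fun x hx => ?_
  refine ⟨Over.homMk (pointOfClosedPoint M.hom x hx) (pointOfClosedPoint_comp M.hom x hx),
    IsLocalRing.closedPoint k, ?_⟩
  exact pointOfClosedPoint_apply M.hom x hx _

lemma geometricallyIntegral_of_isIntegral {X : Scheme.{u}} (f : X ⟶ Spec (CommRingCat.of k)) [IsIntegral X] :
    GeometricallyIntegral f := by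
  have : GeometricallyReduced f := Sga3C.GeomRedPerf.geometricallyReduced_of_isReduced f
  have : GeometricallyIrreducible f :=
    Fdesc.GeomAlgClosed.geometricallyIrreducible_of_irreducibleSpace f
  exact GeometricallyIntegral.of_geometricallyReduced_of_geometricallyIrreducible f

lemma isReduced_tensor {M X : Over (Spec (CommRingCat.of k))} [Smooth M.hom] [IsReduced X.left] :
    IsReduced (M ⊗ X).left :=
  have : IsReduced (pullback M.hom X.hom) := Etcore.SmoothRed.isReduced_of_smooth (pullback.snd M.hom X.hom)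
  this

lemma isField_of_antiAffine {M : Over (Spec (CommRingCat.of k))} [IsIso M.hom.appTop] : IsField Γ(M.left, ⊤) := by
  have e : (CommRingCat.of k) ≅ Γ(M.left, ⊤) := (Scheme.ΓSpecIso (CommRingCat.of k)).symm ≪≫ asIso M.hom.appTop
  exact MulEquiv.isField (Field.toIsField k) e.commRingCatIsoToRingEquiv.symm.toMulEquiv

/-- A morphism from an anti-affine pointed scheme to `X` with image in an affine open is constant. -/
lemma eq_const {M X : Over (Spec (CommRingCat.of k))} [IsIso M.hom.appTop]
    (e : 𝟙_ (Over (Spec (CommRingCat.of k))) ⟶ M) (o : M ⟶ X) (U : X.left.Opens) (hU : IsAffineOpen U)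
    (h : o.left ⁻¹ᵁ U = ⊤) : o = toUnit M ≫ e ≫ o := by
  have hr : Set.range o.left ⊆ Set.range U.ι := by
    rintro _ ⟨y, rfl⟩
    have hy : y ∈ o.left ⁻¹ᵁ U := by rw [h]; trivial
    rw [Scheme.Opens.range_ι]
    exact hy
  let o' : M ⟶ Over.mk (U.ι ≫ X.hom) := Over.homMk (IsOpenImmersion.lift U.ι o.left hr) (by
    change _ ≫ U.ι ≫ X.hom = _
    rw [IsOpenImmersion.lift_fac_assoc, Over.w])
  let j : Over.mk (U.ι ≫ X.hom) ⟶ X := Over.homMk U.ι rfl
  have hoj : o' ≫ j = o := by
    ext1
    exact IsOpenImmersion.lift_fac U.ι o.left hr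
  have hUa : IsAffine (Over.mk (U.ι ≫ X.hom)).left := hU
  have ha : Sga3C.Affinization.IsAffinization (toUnit M) :=
    ⟨inferInstanceAs (IsAffine (Spec (CommRingCat.of k))), by
      have : (toUnit M).left = M.hom := rfl
      rw [this]
      infer_instance⟩
  obtain ⟨g, hg⟩ := ha.exists_fac o'
  have h1 : e ≫ toUnit M = 𝟙 _ := toUnit_unique _ _
  rw [← hoj, ← hg]
  simp only [Category.assoc]
  rw [reassoc_of% h1]

/-- **An anti-affine group acting on a proper integral scheme and fixing an ample class acts trivially.** -/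
theorem act_eq_snd_of_ample {M X : Over (Spec (CommRingCat.of k))} [GrpObj M] [LocallyOfFiniteType M.hom]
    [QuasiCompact M.hom] [IsIso M.hom.appTop] [Smooth M.hom] [IsIntegral X.left] [IsProper X.hom]
    (a : AlgGrp.Action M X) (L : X.left.Modules) (hL : CohB1.IsAmple L)
    (hfix : ∀ g : 𝟙_ (Over (Spec (CommRingCat.of k))) ⟶ M,
      Nonempty ((Scheme.Modules.pullback (lift (toUnit X ≫ g) (𝟙 X) ≫ a.act).left).obj L ≅ L)) :
    a.act = snd M X := by
  set c : Pic X.left := mk L hL.1 with hc
  have hfix' : ∀ g : 𝟙_ (Over (Spec (CommRingCat.of k))) ⟶ M,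
      pull (lift (toUnit X ≫ g) (𝟙 X) ≫ a.act).left c = c := by
    intro g
    obtain ⟨e⟩ := hfix g
    exact mk_congr e
  have hXg : GeometricallyIntegral X.hom := geometricallyIntegral_of_isIntegral X.hom
  have hfst : (fst M X).left = pullback.fst M.hom X.hom := rfl
  have i1 : Flat (fst M X).left := by rw [hfst]; infer_instance
  have i2 : IsProper (fst M X).left := by rw [hfst]; infer_instance
  have i3 : LocallyOfFinitePresentation (fst M X).left := by rw [hfst]; infer_instance
  have i4 : GeometricallyIntegral (fst M X).left := by rw [hfst]; infer_instance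
  have hno : IsLocallyNoetherian M.left := LocallyOfFiniteType.isLocallyNoetherian M.hom
  set D : Pic (M ⊗ X).left := pull a.act.left c * (pull (snd M X).left c)⁻¹ with hD
  have hs : ∀ w : 𝟙_ (Over (Spec (CommRingCat.of k))) ⟶ M, pull (lift (toUnit X ≫ w) (𝟙 X)).left D = 1 := by
    intro w
    rw [hD, map_mul, map_inv, ← pull_comp, ← pull_comp, ← Over.comp_left, ← Over.comp_left, hfix' w, lift_snd,
      Over.id_left, pull_id, mul_inv_cancel]
  have hW := dense_points M
  obtain ⟨d, hd⟩ := Sga7.H496.SeeSaw.exists_pull (fst M X).left (Sga7.H496.SeeSaw.isNormalScheme_of_smooth M.hom) D _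
    hW (by
    rintro x ⟨w, hx⟩
    have h1 := Sga7.H496.SeeSaw.fromSpecResidueField_section w.left M.hom (Over.w w) x hx
    have h2 : (fst M X).left.fiberι x =
        ((fst M X).left.fiberι x ≫ (snd M X).left) ≫ (lift (toUnit X ≫ w) (𝟙 X)).left := by
      apply pullback.hom_ext
      · rw [Category.assoc, ← Over.fst_left, ← Over.comp_left, lift_fst, Over.comp_left, Over.toUnit_left,
          Category.assoc]
        have e1 : (fst M X).left.fiberι x ≫ (fst M X).left =
            ((fst M X).left.fiberι x ≫ (snd M X).left) ≫ X.hom ≫ w.left := by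
          have e2 : (snd M X).left ≫ X.hom = (fst M X).left ≫ M.hom := (Over.w (snd M X)).trans (Over.w (fst M X)).symm
          rw [Category.assoc, reassoc_of% e2, Scheme.Hom.fiber_fac_assoc, Scheme.Hom.fiber_fac]
          conv_lhs => rw [h1]
          rw [Category.assoc]
        rw [e1, Category.assoc]
      · rw [Category.assoc, ← Over.snd_left, ← Over.comp_left, lift_snd, Over.id_left, Category.comp_id]
    rw [h2, pull_comp, hs w, map_one])
  have hDd : pull a.act.left c = pull (fst M X).left d * pull (snd M X).left c := by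
    rw [hd, hD, _root_.mul_assoc, inv_mul_cancel, _root_.mul_one]
  have hunit : ∀ (T : Over (Spec (CommRingCat.of k))) (x : 𝟙_ (Over (Spec (CommRingCat.of k))) ⟶ X),
      pull (toUnit T ≫ x).left c = 1 := by
    intro T x
    rw [Over.comp_left, pull_comp]
    have : pull x.left c = 1 := pic_spec_local k _
    rw [this, map_one]
  -- the orbit maps are constant
  have horb : ∀ x : 𝟙_ (Over (Spec (CommRingCat.of k))) ⟶ X, a.orbitMap x = toUnit M ≫ x := by
    intro x
    have e1 : pull (a.orbitMap x).left c = d := by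
      have h1 := congrArg (pull (lift (𝟙 M) (toUnit M ≫ x)).left) hDd
      rw [map_mul, ← pull_comp, ← pull_comp, ← pull_comp, ← Over.comp_left, ← Over.comp_left, ← Over.comp_left,
        lift_fst, lift_snd, hunit, _root_.mul_one, Over.id_left, pull_id] at h1
      exact h1
    have e2 : pull ((𝟙 M)⁻¹ : M ⟶ M).left d * pull (a.orbitMap x).left c = 1 := by
      have h1 := congrArg (pull (lift ((𝟙 M)⁻¹ : M ⟶ M) (a.orbitMap x)).left) hDd
      rw [map_mul, ← pull_comp, ← pull_comp, ← pull_comp, ← Over.comp_left, ← Over.comp_left, ← Over.comp_left,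
        lift_fst, lift_snd] at h1
      rw [← h1]
      have h2 : lift ((𝟙 M)⁻¹ : M ⟶ M) (a.orbitMap x) ≫ a.act = toUnit M ≫ x := by
        have h3 : lift ((𝟙 M)⁻¹ : M ⟶ M) (a.orbitMap x) ≫ a.act = sm a ((𝟙 M)⁻¹) (sm a (𝟙 M) (toUnit M ≫ x)) := rfl
        rw [h3, ← mul_sm, inv_mul_cancel, one_sm]
      rw [h2, hunit]
    rw [← e1, ← pull_comp, ← Over.comp_left] at e2
    have hηx : (1 : 𝟙_ (Over (Spec (CommRingCat.of k))) ⟶ M) ≫ a.orbitMap x = x := by
      rw [comp_orbitMap, one_sm, toUnit_unique (toUnit (𝟙_ (Over (Spec (CommRingCat.of k))))) (𝟙 _),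
        Category.id_comp]
    have hιη : (1 : 𝟙_ (Over (Spec (CommRingCat.of k))) ⟶ M) ≫ ((𝟙 M)⁻¹ : M ⟶ M) = 1 := by
      rw [GrpObj.comp_inv, Category.comp_id, inv_one]
    obtain ⟨n, s, hxs, hsa⟩ := hL.2.2 (Books.AlgPts.pt x)
    have hLn := Fdesc.LocGen.isInvertible_tensorPow hL.1 (n + 1)
    have hΓ : IsField Γ(M.left, ⊤) := isField_of_antiAffine
    have h1 : CohB1.genLocus _ (Fdesc.LocGen.pullHom (a.orbitMap x).left s) = ⊤ := by
      refine genLocus_eq_top_of_inv hΓ (N' := (Scheme.Modules.pullback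
        (((𝟙 M)⁻¹ : M ⟶ M) ≫ a.orbitMap x).left).obj (CohB1.tensorPow L (n + 1)))
        (Fdesc.LocGen.isInvertible_pullback _ hLn) (Fdesc.LocGen.isInvertible_pullback _ hLn) ?_ _
        (Fdesc.LocGen.pullHom (((𝟙 M)⁻¹ : M ⟶ M) ≫ a.orbitMap x).left s)
        (Books.AlgPts.pt (1 : 𝟙_ (Over (Spec (CommRingCat.of k))) ⟶ M)) ?_ ?_
      · rw [← pull_mk _ hLn, ← pull_mk _ hLn, mk_tensorPow hL.1, map_pow, map_pow, ← mul_pow, _root_.mul_comm]
        exact (congrArg (· ^ (n + 1)) e2).trans (one_pow _)
      · rw [Ega1.AmpFam.genLocus_pullHom _ hLn]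
        change (a.orbitMap x).left (Books.AlgPts.pt (1 : 𝟙_ (Over (Spec (CommRingCat.of k))) ⟶ M)) ∈
          CohB1.genLocus (CohB1.tensorPow L (n + 1)) s
        rw [← Books.AlgPts.pt_comp, hηx]
        exact hxs
      · rw [Ega1.AmpFam.genLocus_pullHom _ hLn]
        change (((𝟙 M)⁻¹ : M ⟶ M) ≫ a.orbitMap x).left
          (Books.AlgPts.pt (1 : 𝟙_ (Over (Spec (CommRingCat.of k))) ⟶ M)) ∈
          CohB1.genLocus (CohB1.tensorPow L (n + 1)) s
        rw [← Books.AlgPts.pt_comp, ← Category.assoc, hιη, hηx]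
        exact hxs
    rw [Ega1.AmpFam.genLocus_pullHom _ hLn] at h1
    have h2 := eq_const 1 (a.orbitMap x) _ hsa h1
    rw [hηx] at h2
    exact h2
  have hred : IsReduced (M ⊗ X).left := isReduced_tensor
  have hlft : LocallyOfFiniteType (M ⊗ X).hom := by
    have : LocallyOfFiniteType ((snd M X).left ≫ X.hom) := by
      have h : (snd M X).left = pullback.snd M.hom X.hom := rfl
      rw [h]
      infer_instance
    rwa [Over.w] at this
  refine Sga3B.RG.BrPts.hom_ext_of_points _ _ fun p => ?_
  have hid : toUnit (𝟙_ (Over (Spec (CommRingCat.of k)))) = 𝟙 _ := toUnit_unique _ _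
  have h1 : p ≫ a.act = (p ≫ fst M X) ≫ a.orbitMap (p ≫ snd M X) := by
    rw [comp_orbitMap, hid, Category.id_comp]
    change _ = lift _ _ ≫ a.act
    congr 1
    ext1 <;> simp
  rw [h1, horb, ← Category.assoc, toUnit_unique ((p ≫ fst M X) ≫ toUnit M) (𝟙 _), Category.id_comp]

lemma isProper_of_isHProjective {X S : Scheme.{u}} (f : X ⟶ S) (h : RelProj.IsHProjective f) : IsProper f := by
  obtain ⟨n, i, hi, rfl⟩ := h
  have := Ega3B.ProjProper.isProper_toBase n S
  infer_instance

/-- **An algebraic group acting faithfully on a proper integral scheme and fixing an ample class is affine.** -/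
theorem isAffine_of_fix {G X : Over (Spec (CommRingCat.of k))} [GrpObj G] [LocallyOfFiniteType G.hom]
    [QuasiCompact G.hom] [IsIntegral X.left] [IsProper X.hom]
    (a : AlgGrp.Action G X)
    (hfaith : ∀ (T : Over (Spec (CommRingCat.of k))) (g : T ⟶ G),
      lift (fst T X ≫ g) (snd T X) ≫ a.act = snd T X → g = toUnit T ≫ η[G])
    (L : X.left.Modules) (hL : CohB1.IsAmple L)
    (hfix : ∀ g : 𝟙_ (Over (Spec (CommRingCat.of k))) ⟶ G,
      Nonempty ((Scheme.Modules.pullback (lift (toUnit X ≫ g) (𝟙 X) ≫ a.act).left).obj L ≅ L)) :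
    IsAffine G.left := by
  have h1 : CompactSpace G.left := QuasiCompact.compactSpace_of_compactSpace G.hom
  have h2 : IsLocallyNoetherian G.left := LocallyOfFiniteType.isLocallyNoetherian G.hom
  have ha := Sga3C.Affinization.isAffinization_toAff G
  obtain ⟨_, h3⟩ := Sga3C.AffinizationGrp.exists_grpObj ha
  set u := Sga3C.Affinization.toAff G with hu
  obtain ⟨h4, h5, h6⟩ := S4107.main u ha
  obtain ⟨_, hι⟩ := Sga3B.KerGrp.exists_grpObj u
  let aM : AlgGrp.Action (Sga3B.KerGrp.kerObj u) X := Agf.H587.ProperQuot.restr (Sga3B.KerGrp.kerι u) a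
  have hH : LocallyOfFiniteType (Sga3C.Affinization.affOver G).hom := by
    have := (S4106.result k G).2.2
    change LocallyOfFiniteType (Spec.map ((Scheme.ΓSpecIso (CommRingCat.of k)).inv ≫ G.hom.appTop))
    rw [Spec.map_comp]
    rwa [Scheme.isoSpec_Spec_inv] at this
  have hHa : IsAffine (Sga3C.Affinization.affOver G).left := ha.isAffine
  have h8 : QuasiCompact (u.left ≫ (Sga3C.Affinization.affOver G).hom) := by rw [Over.w]; infer_instance
  have h9 : LocallyOfFiniteType (u.left ≫ (Sga3C.Affinization.affOver G).hom) := by rw [Over.w]; infer_instance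
  have h10 : QuasiCompact u.left := QuasiCompact.of_comp u.left (Sga3C.Affinization.affOver G).hom
  have h11 : LocallyOfFiniteType u.left := locallyOfFiniteType_of_comp u.left (Sga3C.Affinization.affOver G).hom
  have hqc : QuasiCompact (Sga3B.KerGrp.kerObj u).hom :=
    inferInstanceAs (QuasiCompact (pullback.snd u.left
      (η[Sga3C.Affinization.affOver G] : 𝟙_ _ ⟶ Sga3C.Affinization.affOver G).left))
  have hlf : LocallyOfFiniteType (Sga3B.KerGrp.kerObj u).hom :=
    inferInstanceAs (LocallyOfFiniteType (pullback.snd u.left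
      (η[Sga3C.Affinization.affOver G] : 𝟙_ _ ⟶ Sga3C.Affinization.affOver G).left))
  have h7 := act_eq_snd_of_ample aM L hL (fun g => by
    have h8 : lift (toUnit X ≫ g) (𝟙 X) ≫ aM.act = lift (toUnit X ≫ g ≫ Sga3B.KerGrp.kerι u) (𝟙 X) ≫ a.act := by
      change lift (toUnit X ≫ g) (𝟙 X) ≫ (Sga3B.KerGrp.kerι u ▷ X) ≫ a.act = _
      rw [← Category.assoc, lift_whiskerRight, Category.assoc]
    rw [h8]
    exact hfix _)
  have h12 : Sga3B.KerGrp.kerι u = toUnit _ ≫ η[G] := by
    refine hfaith _ _ ?_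
    refine Eq.trans ?_ h7
    change _ = (Sga3B.KerGrp.kerι u ▷ X) ≫ a.act
    congr 1
  have h9 : IsIso (toUnit (Sga3B.KerGrp.kerObj u)) := by
    refine ⟨η[_], ?_, toUnit_unique _ _⟩
    rw [← cancel_mono (Sga3B.KerGrp.kerι u), Category.assoc, IsMonHom.one_hom, Category.id_comp, h12]
  have h10 : IsAffine (Sga3B.KerGrp.kerObj u).left := by
    have h11 : IsIso (toUnit (Sga3B.KerGrp.kerObj u)).left := inferInstanceAs (IsIso ((Over.forget (Spec (CommRingCat.of k))).map (toUnit (Sga3B.KerGrp.kerObj u))))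
    have h12 : IsAffine (𝟙_ (Over (Spec (CommRingCat.of k)))).left :=
      inferInstanceAs (IsAffine (Spec (CommRingCat.of k)))
    exact IsAffine.of_isIso (toUnit (Sga3B.KerGrp.kerObj u)).left
  exact Sga3.H821.ExtAffine.isAffine_of_ker k u

end K409.AmpleFix
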