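import Groth.Agent.Ega3B.FibreSpreadIso
import Groth.Agent.Sga3C.LocConn
import Mathlib.AlgebraicGeometry.Noetherian
import Mathlib.CategoryTheory.Monoidal.Cartesian.Over
import Mathlib.AlgebraicGeometry.Morphisms.Proper

/-!
# Automorphisms in a family of correspondences

If the graphs of some automorphisms of a proper scheme `X` over a field occur in one flat proper family of
correspondences over a base of finite type then these automorphisms fall into finitely many classes modulo deformation.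
-/

set_option autoImplicit false
universe u v w

open CategoryTheory CategoryTheory.Limits AlgebraicGeometry TopologicalSpace MonoidalCategory CartesianMonoidalCategory

namespace K409.AutSpread

open Groth.Agent Groth.Agent.Ega3B.FibreSpreadIso

section Topology

variable {A : Type*} [TopologicalSpace A]

/-- In a Noetherian space the connected components of an open subset are open. -/
theorem isOpen_connectedComponentIn [NoetherianSpace A] {F : Set A} (hF : IsOpen F) (x : A) :
    IsOpen (connectedComponentIn F x) := by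
  have : LocallyConnectedSpace A := Sga3C.LocConn.locallyConnectedSpace_of_locally_noetherian A fun _ =>
    ⟨Set.univ, isOpen_univ, trivial, Topology.IsInducing.subtypeVal.noetherianSpace⟩
  exact hF.connectedComponentIn

/-- In a Noetherian space a subset has finitely many connected components. -/
theorem finite_range_connectedComponentIn [NoetherianSpace A] (F : Set A) {J : Type*} (g : J → A)
    (hg : ∀ i, g i ∈ F) : (Set.range fun i => connectedComponentIn F (g i)).Finite := by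
  have : NoetherianSpace F := Topology.IsInducing.subtypeVal.noetherianSpace
  have : LocallyConnectedSpace F := Sga3C.LocConn.locallyConnectedSpace_of_locally_noetherian F fun _ =>
    ⟨Set.univ, isOpen_univ, trivial, Topology.IsInducing.subtypeVal.noetherianSpace⟩
  let φ : ConnectedComponents F → Set A := fun c => connectedComponentIn F (Quot.out c : F)
  refine (Set.finite_range φ).subset ?_
  rintro _ ⟨i, rfl⟩
  refine ⟨ConnectedComponents.mk (⟨g i, hg i⟩ : F), ?_⟩
  have h1 : (ConnectedComponents.mk (Quot.out (ConnectedComponents.mk (⟨g i, hg i⟩ : F))) :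
      ConnectedComponents F) = ConnectedComponents.mk (⟨g i, hg i⟩ : F) := Quot.out_eq _
  have h2 := ConnectedComponents.coe_eq_coe.1 h1
  change connectedComponentIn F _ = connectedComponentIn F (g i)
  rw [connectedComponentIn_eq_image (Subtype.coe_prop _), connectedComponentIn_eq_image (hg i)]
  exact congrArg _ h2

end Topology

section Restrict

variable {X Y : Scheme.{u}}

theorem isIso_of_range_subset {A' B' : Scheme.{u}} (p : X ⟶ Y) (V : Y.Opens) [IsIso (p ∣_ V)] {m' : A' ⟶ X}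
    {p' : A' ⟶ B'} {m : B' ⟶ Y} (h : IsPullback m' p' p m) (hm : Set.range m ⊆ V) : IsIso p' := by
  have hm' : Set.range m ⊆ Set.range V.ι := by rwa [Scheme.Opens.range_ι]
  have h1 : IsOpenImmersion.lift V.ι m hm' ≫ V.ι = m := IsOpenImmersion.lift_fac _ _ _
  rw [← h1] at h
  have h2 := (isPullback_morphismRestrict p V).flip
  have h3 : IsPullback (h2.lift m' (p' ≫ IsOpenImmersion.lift V.ι m hm') (by
      rw [Category.assoc]; exact h.w)) p' (p ∣_ V) (IsOpenImmersion.lift V.ι m hm') := by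
    refine IsPullback.of_right ?_ ?_ h2
    · rw [h2.lift_fst]
      exact h
    · exact h2.lift_snd _ _ _
  exact MorphismProperty.of_isPullback (P := MorphismProperty.isomorphisms Scheme.{u}) h3
    (inferInstanceAs (IsIso (p ∣_ V)))

theorem isIso_iSup {ι : Type*} (q : X ⟶ Y) (V : ι → Y.Opens) (h : ∀ i, IsIso (q ∣_ V i)) :
    IsIso (q ∣_ ⨆ i, V i) := by
  have h1 : ∀ y : (⨆ i, V i : Y.Opens), ∃ i, y.1 ∈ V i := fun y => Opens.mem_iSup.1 y.2
  choose c hc using h1
  have hcov : (⨆ y : (⨆ i, V i : Y.Opens), (⨆ i, V i : Y.Opens).ι ⁻¹ᵁ (V (c y))) = ⊤ := by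
    rw [eq_top_iff]
    intro y _
    exact Opens.mem_iSup.2 ⟨y, hc y⟩
  refine (IsZariskiLocalAtTarget.iff_of_iSup_eq_top (P := .isomorphisms Scheme.{u}) _ hcov).2 fun y => ?_
  have := h (c y)
  refine isIso_of_range_subset q (V (c y)) ((isPullback_morphismRestrict (q ∣_ ⨆ i, V i) _).flip.paste_horiz
    (isPullback_morphismRestrict q (⨆ i, V i)).flip) ?_
  rintro _ ⟨x, rfl⟩
  exact x.2

end Restrict

section Fibre

/-- A section of `H ⟶ Spec K` identifies `Spec K` with the spectrum of a residue field. -/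
theorem exists_isIso_fac {K : Type u} [Field K] {H : Scheme.{u}} (h : H ⟶ Spec (CommRingCat.of K))
    (t : Spec (CommRingCat.of K) ⟶ H) (ht : t ≫ h = 𝟙 _) :
    ∃ t' : Spec (CommRingCat.of K) ⟶ Spec (H.residueField (t (IsLocalRing.closedPoint K))),
      IsIso t' ∧ t' ≫ H.fromSpecResidueField _ = t := by
  obtain ⟨t', ht'⟩ := exists_fac_fromSpecResidueField K t rfl
  refine ⟨t', ?_, ht'⟩
  have h1 : t' ≫ H.fromSpecResidueField _ ≫ h = 𝟙 _ := by rw [← Category.assoc, ht', ht]
  obtain ⟨φ, rfl⟩ := Spec.map_surjective t'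
  obtain ⟨ψ, hψ⟩ := Spec.map_surjective (H.fromSpecResidueField (t (IsLocalRing.closedPoint K)) ≫ h)
  rw [← hψ, ← Spec.map_comp] at h1
  have h2 : ψ ≫ φ = 𝟙 _ := Spec.map_injective (h1.trans (Spec.map_id _).symm)
  have h3 : Function.Bijective φ.hom := ⟨φ.hom.injective, fun x => ⟨ψ.hom x, congr($(h2).hom x)⟩⟩
  have : IsIso φ := (ConcreteCategory.isIso_iff_bijective φ).2 h3
  infer_instance

theorem isIso_fiberMapOver {X Y Z : Scheme.{u}} (f : X ⟶ Y) (g : X ⟶ Z) (h : Y ⟶ Z) (w : f ≫ h = g) (z : Z)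
    {S₀ : Scheme.{u}} (t' : S₀ ⟶ Spec (Z.residueField z)) [IsIso t'] {X₁ X₂ : Scheme.{u}} {a : X₁ ⟶ X} {q : X₁ ⟶ S₀}
    (h1 : IsPullback a q g (t' ≫ Z.fromSpecResidueField z)) {b : X₂ ⟶ Y} {r : X₂ ⟶ S₀}
    (h2 : IsPullback b r h (t' ≫ Z.fromSpecResidueField z)) (φ : X₁ ⟶ X₂) [IsIso φ] (hφ1 : φ ≫ b = a ≫ f)
    (hφ2 : φ ≫ r = q) : IsIso (CohIII.fiberMapOver f g h w z) := by
  have h1' : IsPullback a (q ≫ t') g (Z.fromSpecResidueField z) :=
    IsPullback.of_iso h1 (Iso.refl _) (Iso.refl _) (asIso t') (Iso.refl _) (by simp) (by simp) (by simp) (by simp)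
  have h2' : IsPullback b (r ≫ t') h (Z.fromSpecResidueField z) :=
    IsPullback.of_iso h2 (Iso.refl _) (Iso.refl _) (asIso t') (Iso.refl _) (by simp) (by simp) (by simp) (by simp)
  let M : pullback g (Z.fromSpecResidueField z) ⟶ pullback h (Z.fromSpecResidueField z) :=
    pullback.map g (Z.fromSpecResidueField z) h (Z.fromSpecResidueField z) f (𝟙 _) (𝟙 _)
      (by rw [Category.comp_id, w]) (by rw [Category.comp_id, Category.id_comp])
  have hM1 : M ≫ pullback.fst h (Z.fromSpecResidueField z) = pullback.fst g (Z.fromSpecResidueField z) ≫ f :=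
    pullback.lift_fst _ _ _
  have hM2 : M ≫ pullback.snd h (Z.fromSpecResidueField z) = pullback.snd g (Z.fromSpecResidueField z) :=
    (pullback.lift_snd _ _ _).trans (Category.comp_id _)
  have h3 : h1'.isoPullback.hom ≫ M = φ ≫ h2'.isoPullback.hom := by
    apply pullback.hom_ext
    · rw [Category.assoc, hM1, IsPullback.isoPullback_hom_fst_assoc, Category.assoc, IsPullback.isoPullback_hom_fst, hφ1]
    · rw [Category.assoc, hM2, IsPullback.isoPullback_hom_snd, Category.assoc, IsPullback.isoPullback_hom_snd, ← hφ2,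
        Category.assoc]
  have h4 : IsIso (h1'.isoPullback.hom ≫ M) := by
    rw [h3]
    infer_instance
  exact IsIso.of_isIso_comp_left h1'.isoPullback.hom M

end Fibre

section Main

variable {k : Type u} [Field k] {X H Z : Over (Spec (CommRingCat.of k))}

/-- The base change of `X ⊗ H` along a morphism to `H`. -/
theorem isPullback_whiskerLeft {T : Over (Spec (CommRingCat.of k))} (ι : T ⟶ H) :
    IsPullback (X ◁ ι) (snd X T) (snd X H) ι := by
  refine ⟨⟨by simp⟩, ⟨PullbackCone.IsLimit.mk _ (fun s => lift (s.fst ≫ fst X H) s.snd) (fun s => ?_) (fun s => ?_)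
    (fun s m h1 h2 => ?_)⟩⟩
  · apply CartesianMonoidalCategory.hom_ext
    · simp
    · simp [s.condition]
  · simp
  · apply CartesianMonoidalCategory.hom_ext
    · simp [← h1]
    · simp [h2]

/-- The fibre of `X ⊗ H` over a rational point. -/
theorem isPullback_point (t : 𝟙_ (Over (Spec (CommRingCat.of k))) ⟶ H) :
    IsPullback (lift (𝟙 X) (toUnit X ≫ t)) (toUnit X) (snd X H) t := by
  refine ⟨⟨by simp⟩, ⟨PullbackCone.IsLimit.mk _ (fun s => s.fst ≫ fst X H) (fun s => ?_) (fun s => ?_)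
    (fun s m h1 h2 => ?_)⟩⟩
  · apply CartesianMonoidalCategory.hom_ext
    · simp
    · have h1 : s.fst ≫ snd X H = s.snd ≫ t := s.condition
      rw [Category.assoc, lift_snd, ← Category.assoc, h1]
      congr 1
      exact toUnit_unique _ _
  · exact toUnit_unique _ _
  · rw [← h1]
    simp

variable (ζ : Z ⟶ X) (π : Z ⟶ H)

/-- If the fibre over a rational point is an isomorphism then `Z ⟶ X ⊗ H` is an isomorphism over a neighbourhood. -/
theorem exists_isIso_restrict [IsProper X.hom] [IsLocallyNoetherian H.left] [IsProper π.left] [Flat π.left]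
    (t : 𝟙_ (Over (Spec (CommRingCat.of k))) ⟶ H) (a : X ⟶ Z)
    (ha : IsPullback a.left X.hom π.left (show Spec (CommRingCat.of k) ⟶ H.left from t.left)) [IsIso (a ≫ ζ)] :
    ∃ U : H.left.Opens, (show Spec (CommRingCat.of k) ⟶ H.left from t.left) (IsLocalRing.closedPoint k) ∈ U ∧
      IsIso ((lift ζ π).left ∣_ ((snd X H).left ⁻¹ᵁ U)) := by
  obtain ⟨t', ht', hfac⟩ := exists_isIso_fac H.hom t.left (Over.w t)
  have hpb : IsPullback (lift (𝟙 X) (toUnit X ≫ t)).left X.hom (snd X H).left t.left :=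
    (isPullback_point (X := X) t).map (Over.forget _)
  have hpr : IsProper (snd X H).left :=
    inferInstanceAs (IsProper (pullback.snd X.hom H.hom))
  have hw : (lift ζ π).left ≫ (snd X H).left = π.left := by
    rw [← Over.comp_left, lift_snd]
  have haπ : a ≫ π = toUnit X ≫ t := by
    apply Over.OverMorphism.ext
    exact ha.w
  have hφ : IsIso (a ≫ ζ).left := inferInstanceAs (IsIso ((Over.forget _).map (a ≫ ζ)))
  have h1 : IsIso (CohIII.fiberMapOver (lift ζ π).left π.left (snd X H).left hw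
      ((show Spec (CommRingCat.of k) ⟶ H.left from t.left) (IsLocalRing.closedPoint k))) := by
    refine isIso_fiberMapOver (lift ζ π).left π.left (snd X H).left hw _ t' (a := a.left) (q := X.hom)
      (b := (lift (𝟙 X) (toUnit X ≫ t)).left) (r := X.hom) ?_ ?_ (a ≫ ζ).left ?_ ?_
    · rw [hfac]; exact ha
    · rw [hfac]; exact hpb
    · rw [← Over.comp_left, ← Over.comp_left]
      congr 1
      rw [comp_lift, comp_lift, Category.comp_id, haπ, ← Category.assoc]
      congr 2
      exact toUnit_unique _ _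
    · exact Over.w (a ≫ ζ)
  exact exists_isIso (lift ζ π).left π.left (snd X H).left hw _

variable {T : Over (Spec (CommRingCat.of k))} (ι : T ⟶ H)

/-- The base change of `Z ⟶ X ⊗ H`. -/
noncomputable abbrev pT : pullback π ι ⟶ X ⊗ T := lift (pullback.fst π ι ≫ ζ) (pullback.snd π ι)

theorem isPullback_pT : IsPullback (pullback.fst π ι) (pT ζ π ι) (lift ζ π) (X ◁ ι) := by
  refine IsPullback.of_bot (v₂₁ := snd X T) (v₂₂ := snd X H) (h₃₁ := ι) ?_ ?_ (isPullback_whiskerLeft ι)
  · rw [lift_snd, lift_snd]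
    exact IsPullback.of_hasPullback π ι
  · apply CartesianMonoidalCategory.hom_ext
    · simp
    · simp [pullback.condition]

theorem isIso_pT (V : H.left.Opens) (h : IsIso ((lift ζ π).left ∣_ ((snd X H).left ⁻¹ᵁ V)))
    (hι : Set.range ι.left ⊆ V) : IsIso (pT ζ π ι) := by
  have h1 : IsPullback (pullback.fst π ι).left (pT ζ π ι).left (lift ζ π).left (X ◁ ι).left :=
    (isPullback_pT ζ π ι).map (Over.forget _)
  have h2 : IsIso (pT ζ π ι).left := by
    refine isIso_of_range_subset (lift ζ π).left ((snd X H).left ⁻¹ᵁ V) h1 ?_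
    rintro _ ⟨x, rfl⟩
    have h3 : (X ◁ ι).left ≫ (snd X H).left = (snd X T).left ≫ ι.left := by
      rw [← Over.comp_left, ← Over.comp_left, whiskerLeft_snd]
    have h4 : (snd X H).left ((X ◁ ι).left x) = ι.left ((snd X T).left x) := congr($h3 x)
    change (snd X H).left ((X ◁ ι).left x) ∈ V
    rw [h4]
    exact hι ⟨_, rfl⟩
  have h3 : IsIso ((Over.forget _).map (pT ζ π ι)) := h2
  exact isIso_of_reflects_iso (pT ζ π ι) (Over.forget _)

theorem isIso_restrict_of_le {X Y : Scheme.{u}} (p : X ⟶ Y) {V W : Y.Opens} (h : W ≤ V) (hV : IsIso (p ∣_ V)) :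
    IsIso (p ∣_ W) := by
  refine isIso_of_range_subset p V (isPullback_morphismRestrict p W).flip ?_
  rintro _ ⟨x, rfl⟩
  exact h x.2

/-- Evaluation of the isomorphism at a point. -/
theorem eval_pT (ζ₁ ζ₂ : Z ⟶ X) [IsIso (pT ζ₁ π ι)] (a : X ⟶ Z) (h1 : a ≫ ζ₁ = 𝟙 X)
    (τ : 𝟙_ (Over (Spec (CommRingCat.of k))) ⟶ T) (h : a ≫ π = toUnit X ≫ τ ≫ ι) :
    lift (𝟙 X) (toUnit X ≫ τ) ≫ (inv (pT ζ₁ π ι) ≫ pT ζ₂ π ι) ≫ fst X T = a ≫ ζ₂ := by
  have hh : a ≫ π = (toUnit X ≫ τ) ≫ ι := by rw [h, Category.assoc]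
  obtain ⟨b, hb1, hb2⟩ : ∃ b : X ⟶ pullback π ι, b ≫ pullback.fst π ι = a ∧ b ≫ pullback.snd π ι = toUnit X ≫ τ :=
    ⟨pullback.lift a (toUnit X ≫ τ) hh, pullback.lift_fst _ _ _, pullback.lift_snd _ _ _⟩
  have hb : lift (𝟙 X) (toUnit X ≫ τ) = b ≫ pT ζ₁ π ι := by
    rw [comp_lift, ← Category.assoc, hb1, hb2, h1]
  rw [hb, Category.assoc, Category.assoc, IsIso.hom_inv_id_assoc, lift_fst, ← Category.assoc, hb1]

/-- The automorphisms occurring in the family fall into finitely many classes modulo deformation. -/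
theorem exists_finite [IsProper X.hom] [LocallyOfFiniteType H.hom] [QuasiCompact H.hom] [IsProper π.left]
    [Flat π.left] (ζ₁ ζ₂ : Z ⟶ X) {J : Type w} (g : J → (X ≅ X))
    (t : J → (𝟙_ (Over (Spec (CommRingCat.of k))) ⟶ H)) (a : J → (X ⟶ Z))
    (ha : ∀ j, IsPullback (a j).left X.hom π.left (show Spec (CommRingCat.of k) ⟶ H.left from (t j).left))
    (h1 : ∀ j, a j ≫ ζ₁ = 𝟙 X) (h2 : ∀ j, a j ≫ ζ₂ = (g j).hom) :
    ∃ (n : ℕ) (s : Fin n → J), ∀ j, ∃ (i : Fin n) (T : Over (Spec (CommRingCat.of k)))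
      (_ : ConnectedSpace ↥T.left) (_ : LocallyOfFiniteType T.hom) (_ : QuasiCompact T.hom) (φ : X ⊗ T ≅ X ⊗ T)
      (t₀ t₁ : 𝟙_ (Over (Spec (CommRingCat.of k))) ⟶ T),
      φ.hom ≫ snd X T = snd X T ∧
      lift (𝟙 X) (toUnit X ≫ t₀) ≫ φ.hom ≫ fst X T = (g (s i)).hom ∧
      lift (𝟙 X) (toUnit X ≫ t₁) ≫ φ.hom ≫ fst X T = (g j).hom := by
  have hln : IsLocallyNoetherian H.left := LocallyOfFiniteType.isLocallyNoetherian H.hom
  have hcp : CompactSpace H.left := QuasiCompact.compactSpace_of_compactSpace H.hom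
  have hnoe : IsNoetherian H.left := {}
  have hns : NoetherianSpace H.left := inferInstance
  let x : J → H.left := fun j => (show Spec (CommRingCat.of k) ⟶ H.left from (t j).left) (IsLocalRing.closedPoint k)
  have haπ : ∀ j, a j ≫ π = toUnit X ≫ t j := fun j => by
    apply Over.OverMorphism.ext
    exact (ha j).w
  have i1 : ∀ j, IsIso (a j ≫ ζ₁) := fun j => by rw [h1]; infer_instance
  have i2 : ∀ j, IsIso (a j ≫ ζ₂) := fun j => by rw [h2]; infer_instance
  choose U₁ hU₁ hI₁ using fun j => exists_isIso_restrict ζ₁ π (t j) (a j) (ha j)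
  choose U₂ hU₂ hI₂ using fun j => exists_isIso_restrict ζ₂ π (t j) (a j) (ha j)
  let U : H.left.Opens := ⨆ j, U₁ j ⊓ U₂ j
  have hxU : ∀ j, x j ∈ U := fun j => Opens.mem_iSup.2 ⟨j, hU₁ j, hU₂ j⟩
  have hIs : ∀ (ζ : Z ⟶ X) (_ : ∀ j, IsIso ((lift ζ π).left ∣_ ((snd X H).left ⁻¹ᵁ (U₁ j ⊓ U₂ j)))),
      IsIso ((lift ζ π).left ∣_ ((snd X H).left ⁻¹ᵁ U)) := by
    intro ζ h
    have h3 : (snd X H).left ⁻¹ᵁ U = ⨆ j, (snd X H).left ⁻¹ᵁ (U₁ j ⊓ U₂ j) := by
      ext y
      simp [U]
    rw [h3]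
    exact isIso_iSup _ _ h
  have hI1 : IsIso ((lift ζ₁ π).left ∣_ ((snd X H).left ⁻¹ᵁ U)) :=
    hIs ζ₁ fun j => isIso_restrict_of_le _ (fun y hy => (show (snd X H).left y ∈ U₁ j ⊓ U₂ j from hy).1) (hI₁ j)
  have hI2 : IsIso ((lift ζ₂ π).left ∣_ ((snd X H).left ⁻¹ᵁ U)) :=
    hIs ζ₂ fun j => isIso_restrict_of_le _ (fun y hy => (show (snd X H).left y ∈ U₁ j ⊓ U₂ j from hy).2) (hI₂ j)
  let c : J → Set H.left := fun j => connectedComponentIn (U : Set H.left) (x j)
  have hfin : (Set.range c).Finite := finite_range_connectedComponentIn (U : Set H.left) x hxU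
  have hfin' : Finite (Set.range c) := hfin
  obtain ⟨n, ⟨e⟩⟩ := Finite.exists_equiv_fin (Set.range c)
  choose s hs using fun i : Fin n => (e.symm i).2
  refine ⟨n, s, fun j => ⟨e ⟨c j, j, rfl⟩, ?_⟩⟩
  have hsj : c (s (e ⟨c j, j, rfl⟩)) = c j := by rw [hs, Equiv.symm_apply_apply]
  set j' := s (e ⟨c j, j, rfl⟩) with hj'
  let W : H.left.Opens := ⟨c j, isOpen_connectedComponentIn U.2 (x j)⟩
  have hWU : (W : Set H.left) ⊆ U := connectedComponentIn_subset _ _
  have hxj : x j ∈ W := mem_connectedComponentIn (hxU j)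
  have hxj' : x j' ∈ W := by
    change x j' ∈ c j
    rw [← hsj]
    exact mem_connectedComponentIn (hxU j')
  let T : Over (Spec (CommRingCat.of k)) := Over.mk (W.ι ≫ H.hom)
  let ι : T ⟶ H := Over.homMk W.ι rfl
  have hrι : Set.range ι.left ⊆ U := by
    change Set.range W.ι ⊆ U
    rw [Scheme.Opens.range_ι]
    exact hWU
  have hp1 : IsIso (pT ζ₁ π ι) := isIso_pT ζ₁ π ι U hI1 hrι
  have hp2 : IsIso (pT ζ₂ π ι) := isIso_pT ζ₂ π ι U hI2 hrι
  have hlift : ∀ l : J, x l ∈ W → ∃ τ : 𝟙_ (Over (Spec (CommRingCat.of k))) ⟶ T, τ ≫ ι = t l := by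
    intro l hl
    have hr : Set.range (show Spec (CommRingCat.of k) ⟶ H.left from (t l).left) ⊆ Set.range W.ι := by
      rw [Scheme.Opens.range_ι]
      rintro _ ⟨y, rfl⟩
      have : y = IsLocalRing.closedPoint k := Subsingleton.elim _ _
      rw [this]
      exact hl
    refine ⟨Over.homMk (IsOpenImmersion.lift W.ι (show Spec (CommRingCat.of k) ⟶ H.left from (t l).left) hr) ?_, ?_⟩
    · change IsOpenImmersion.lift W.ι _ hr ≫ W.ι ≫ H.hom = _
      rw [IsOpenImmersion.lift_fac_assoc]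
      exact Over.w (t l)
    · apply Over.OverMorphism.ext
      exact IsOpenImmersion.lift_fac _ _ hr
  obtain ⟨τ, hτ⟩ := hlift j hxj
  obtain ⟨τ', hτ'⟩ := hlift j' hxj'
  have hconn : ConnectedSpace (W : Type _) :=
    isConnected_iff_connectedSpace.1 (isConnected_connectedComponentIn_iff.2 (hxU j))
  have hnW : NoetherianSpace (W : Type _) := Topology.IsInducing.subtypeVal.noetherianSpace
  have hqc : QuasiCompact W.ι := inferInstance
  refine ⟨T, hconn, inferInstanceAs (LocallyOfFiniteType (W.ι ≫ H.hom)),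
    inferInstanceAs (QuasiCompact (W.ι ≫ H.hom)), (asIso (pT ζ₁ π ι)).symm ≪≫ asIso (pT ζ₂ π ι), τ', τ, ?_, ?_, ?_⟩
  · simp
  · rw [Iso.trans_hom, Iso.symm_hom, asIso_inv, asIso_hom,
      eval_pT π ι ζ₁ ζ₂ (a j') (h1 j') τ' (by rw [haπ, hτ']), h2]
  · rw [Iso.trans_hom, Iso.symm_hom, asIso_inv, asIso_hom,
      eval_pT π ι ζ₁ ζ₂ (a j) (h1 j) τ (by rw [haπ, hτ]), h2]

end Main

end K409.AutSpread
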