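import Groth.Agent.Grpsch.PicGrp
import Groth.Agent.S0051
import Groth.Agent.S4276
import Groth.Agent.Fga.EulerIso
import Groth.Agent.VarietyB.DimSch
import Groth.Agent.Ega3B.PicTwist

/-!
# Euler characteristics of powers of ample modules
-/

set_option autoImplicit false
universe u v

open CategoryTheory CategoryTheory.Limits AlgebraicGeometry

namespace K409.HilbChi

open Groth.Agent Groth.Agent.Grpsch.PicGrp Groth.Agent.Fdesc.LocGen

variable (k : Type u) [Field k] {X : Scheme.{u}} [X.Over (Spec (CommRingCat.of k))]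

/-- For large powers of an ample module the Euler characteristic is the dimension of the space of sections. -/
theorem exists_euler_eq [IsProper (X ↘ Spec (CommRingCat.of k))] {N : X.Modules} (hN : CohB1.IsAmple N)
    (r : ℕ) :
    ∃ D : ℕ, ∀ d : ℕ, D ≤ d → FGA.eulerCharLE k X (CohB1.tensorPow N d) r =
      Module.finrank k (Coh.HH X (CohB1.tensorPow N d) 0) := by
  obtain ⟨D, hD⟩ := (S0051.result k X (X ↘ Spec (CommRingCat.of k)) N hN.1).1 hN (Coh.structureModule X)
    (Ega3B.PicTwist.isCoh_of_isInvertible isInvertible_structureModule)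
  refine ⟨D, fun d hd => ?_⟩
  obtain ⟨e⟩ : Nonempty (CohB1.tensorMod (Coh.structureModule X) (CohB1.tensorPow N d) ≅ CohB1.tensorPow N d) := by
    rw [← mk_eq_iff (isInvertible_tensorMod isInvertible_structureModule (isInvertible_tensorPow hN.1 d))
      (isInvertible_tensorPow hN.1 d), ← mk_mul_mk isInvertible_structureModule, ← one_def, one_mul]
  have h0 : ∀ p : ℕ, 0 < p → Module.finrank k (Coh.HH X (CohB1.tensorPow N d) p) = 0 := fun p hp => by
    have h1 := hD d hd p hp
    have h2 : Subsingleton (Coh.HH X (CohB1.tensorPow N d) p) :=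
      (Fga.EulerIso.HHequiv k e p).symm.toEquiv.subsingleton
    exact Module.finrank_zero_of_subsingleton
  rw [FGA.eulerCharLE, Finset.sum_range_succ', Finset.sum_eq_zero]
  · simp
  · intro i _
    rw [h0 (i + 1) (by omega)]
    simp

/-- The Euler characteristic is invariant under twists by modules numerically equivalent to zero. -/
theorem euler_tensorPow [IsAlgClosed k] [IsProper (X ↘ Spec (CommRingCat.of k))] {d : ℕ}
    (hd : topologicalKrullDim X ≤ d) {P : X.Modules} (hP : PicF.IsInvertible P) (hτ : Pic13.IsTauEquivZero k X P)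
    {F : X.Modules} (hF : PicF.IsInvertible F) (b : ℕ) :
    FGA.eulerCharLE k X (CohB1.tensorMod F (CohB1.tensorPow P b)) d = FGA.eulerCharLE k X F d := by
  induction b with
  | zero =>
    refine Fga.EulerIso.eulerCharLE_congr k ?_ d
    refine Nonempty.some ?_
    rw [← mk_eq_iff (isInvertible_tensorMod hF (isInvertible_tensorPow hP 0)) hF,
      ← mk_mul_mk hF (isInvertible_tensorPow hP 0), mk_tensorPow hP, pow_zero, mul_one]
  | succ b ih =>
    rw [← ih, ← S4276.result k X d hd P hP hτ (CohB1.tensorMod F (CohB1.tensorPow P b))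
      (Ega3B.PicTwist.isCoh_of_isInvertible (isInvertible_tensorMod hF (isInvertible_tensorPow hP b)))]
    refine Fga.EulerIso.eulerCharLE_congr k ?_ d
    refine Nonempty.some ?_
    rw [← mk_eq_iff (isInvertible_tensorMod hF (isInvertible_tensorPow hP (b + 1)))
      (isInvertible_tensorMod (isInvertible_tensorMod hF (isInvertible_tensorPow hP b)) hP),
      ← mk_mul_mk hF (isInvertible_tensorPow hP (b + 1)), mk_tensorPow hP,
      ← mk_mul_mk (isInvertible_tensorMod hF (isInvertible_tensorPow hP b)) hP,
      ← mk_mul_mk hF (isInvertible_tensorPow hP b), mk_tensorPow hP, pow_succ, mul_assoc]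

theorem exists_dim_le [LocallyOfFiniteType (X ↘ Spec (CommRingCat.of k))] [IrreducibleSpace X] :
    ∃ r : ℕ, topologicalKrullDim X ≤ r :=
  ⟨_, (VarietyB.DimSch.topologicalKrullDim_eq_trd k).le⟩

end K409.HilbChi
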