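import Groth.Agent.AlgGrp.K409.HilbFam
import Groth.Agent.AlgGrp.K409.HilbChi
import Groth.Agent.AlgGrp.K409.AutSpread
import Groth.Agent.Ega2.AmpleVery
import Groth.Agent.S9816
import Groth.Agent.Divis.NormAmple
import Groth.Agent.CohqB.AmpGeneric

/-!
# Automorphisms fixing a class up to numerical equivalence

The automorphisms of a projective variety fixing the class of an ample module up to a twist by modules `τ`-equivalent to
zero fall into finitely many classes modulo deformation.
-/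

set_option autoImplicit false
universe u v w

open CategoryTheory CategoryTheory.Limits AlgebraicGeometry TopologicalSpace MonoidalCategory CartesianMonoidalCategory

namespace K409.AutHilb

open Groth.Agent Groth.Agent.Grpsch.PicGrp Groth.Agent.Fdesc.LocGen Groth.Agent.CohqB.ProjBC Groth.Agent.Fga.HilbAsm2
open HilbFam HilbChi

variable {k : Type u} [Field k] (X : Over (Spec (CommRingCat.of k)))

/-- The graph of an endomorphism. -/
noncomputable abbrev gr {X : Over (Spec (CommRingCat.of k))} (g : X ⟶ X) : X.left ⟶ pullback X.hom X.hom :=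
  pullback.lift (𝟙 X.left) g.left (by rw [Category.id_comp, Over.w])

theorem isClosedImmersion_gr [IsSeparated X.hom] (g : X ⟶ X) : IsClosedImmersion (gr g) := by
  have h1 : gr g ≫ pullback.fst X.hom X.hom = 𝟙 X.left := pullback.lift_fst _ _ _
  have h2 : IsClosedImmersion (gr g ≫ pullback.fst X.hom X.hom) := by
    rw [h1]
    infer_instance
  exact IsClosedImmersion.of_comp (gr g) (pullback.fst X.hom X.hom)

/-- The box square of a module. -/
noncomputable abbrev box (L : X.left.Modules) : (pullback X.hom X.hom).Modules :=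
  CohB1.tensorMod ((Scheme.Modules.pullback (pullback.fst X.hom X.hom)).obj L)
    ((Scheme.Modules.pullback (pullback.snd X.hom X.hom)).obj L)

theorem pull_gr_box {L : X.left.Modules} (hL : PicF.IsInvertible L) (hB : PicF.IsInvertible (box X L)) (g : X ⟶ X) :
    pull (gr g) (mk (box X L) hB) = mk L hL * pull g.left (mk L hL) := by
  have h1 : mk (box X L) hB = pull (pullback.fst X.hom X.hom) (mk L hL) * pull (pullback.snd X.hom X.hom) (mk L hL) :=
    rfl
  rw [h1, map_mul, ← pull_comp, ← pull_comp, pullback.lift_fst, pullback.lift_snd, pull_id]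

/-- The embedding of `X × X`. -/
theorem exists_embedding [IsProper X.hom] {L : X.left.Modules} (hL : CohB1.IsAmple L) :
    ∃ (e n : ℕ) (i : pullback X.hom X.hom ⟶ CohB1.ProjSpaceOver n (Spec (CommRingCat.of k))), 0 < e ∧
      IsClosedImmersion i ∧ fX i = pullback.fst X.hom X.hom ≫ X.hom ∧
      Nonempty (CohB1.tensorPow (box X L) e ≅ (Scheme.Modules.pullback i).obj (Twist.twistOver n _ 1)) := by
  have hA : CohB1.IsAmple (box X L) := S9816.result X.hom X.hom L L hL hL
  obtain ⟨n₀, h⟩ := Ega2.AmpleVery.exists_forall_isRelVeryAmplePn (pullback.fst X.hom X.hom ≫ X.hom) hA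
  obtain ⟨n, i, hi, hi', ⟨φ⟩⟩ := h (n₀ + 1) (by omega)
  refine ⟨n₀ + 1, n, i, by omega, ?_, hi', ⟨φ⟩⟩
  have hi2 : i ≫ CohB1.ProjSpaceOver.toBase n (Spec (CommRingCat.of k)) = pullback.fst X.hom X.hom ≫ X.hom := hi'
  have h1 : IsProper (i ≫ CohB1.ProjSpaceOver.toBase n (Spec (CommRingCat.of k))) := by
    rw [hi2]
    infer_instance
  have h2 : IsProper i := IsProper.of_comp i (CohB1.ProjSpaceOver.toBase n (Spec (CommRingCat.of k)))
  exact IsClosedImmersion.of_isPreimmersion i i.isClosedMap.isClosed_range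

section Chi

variable {X} {e n : ℕ} (i : pullback X.hom X.hom ⟶ CohB1.ProjSpaceOver n (Spec (CommRingCat.of k)))
  {L : X.left.Modules}

theorem nonempty_o1 (hφ : Nonempty (CohB1.tensorPow (box X L) e ≅
    (Scheme.Modules.pullback i).obj (Twist.twistOver n _ 1))) (g : X ⟶ X) :
    Nonempty ((Scheme.Modules.pullback (gr g)).obj (CohB1.tensorPow (box X L) e) ≅ o1 i (gr g)) := by
  obtain ⟨φ⟩ := hφ
  exact ⟨(Scheme.Modules.pullback (gr g)).mapIso φ ≪≫
    (Scheme.Modules.pullback (gr g)).mapIso ((Scheme.Modules.pullbackComp i (fstZ n _)).app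
      (Twist.twistProjSpace n (ULift.{u} ℤ) 1)) ≪≫
    (Scheme.Modules.pullbackComp (gr g) (i ≫ fstZ n _)).app (Twist.twistProjSpace n (ULift.{u} ℤ) 1)⟩

theorem exists_finrank_eq [IsAlgClosed k] [IsIntegral X.left] [IsProper X.hom] (hL : CohB1.IsAmple L) (he : 0 < e)
    (hφ : Nonempty (CohB1.tensorPow (box X L) e ≅ (Scheme.Modules.pullback i).obj (Twist.twistOver n _ 1)))
    {r : ℕ} (hr : topologicalKrullDim X.left ≤ r) (g : X ⟶ X) {P : X.left.Modules} (hP : PicF.IsInvertible P)
    (hτ : @Pic13.IsTauEquivZero k _ X.left ⟨X.hom⟩ P)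
    (hg : Nonempty ((Scheme.Modules.pullback g.left).obj L ≅ CohB1.tensorMod L P)) :
    letI : X.left.Over (Spec (CommRingCat.of k)) := ⟨X.hom⟩
    ∃ D : ℕ, ∀ d : ℕ, D ≤ d → (Module.finrank k (Coh.HH X.left (CohB1.tensorPow (o1 i (gr g)) d) 0) : ℤ) =
      FGA.eulerCharLE k X.left (CohB1.tensorPow (CohB1.tensorPow L 2) (e * d)) r := by
  let _ : X.left.Over (Spec (CommRingCat.of k)) := ⟨X.hom⟩
  have hpr : IsProper (X.left ↘ Spec (CommRingCat.of k)) := ‹IsProper X.hom›
  have hA : CohB1.IsAmple (box X L) := S9816.result X.hom X.hom L L hL hL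
  have hcl := isClosedImmersion_gr X g
  obtain ⟨ψ⟩ := nonempty_o1 i hφ g
  have hN : CohB1.IsAmple (o1 i (gr g)) :=
    CohqB.AmpCocycle.isAmple_of_iso ψ (CohqB.AmpCocycle.isAmple_pullback (gr g)
      (Divis.NormAmple.isAmple_tensorPow hA he))
  obtain ⟨D, hD⟩ := exists_euler_eq k hN r
  refine ⟨D, fun d hd => ?_⟩
  rw [← hD d hd, ← euler_tensorPow k hr hP hτ (isInvertible_tensorPow (isInvertible_tensorPow hL.1 2) (e * d)) (e * d)]
  refine Fga.EulerIso.eulerCharLE_congr k (Nonempty.some ?_) r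
  rw [← mk_eq_iff (isInvertible_tensorPow hN.1 d) (isInvertible_tensorMod
      (isInvertible_tensorPow (isInvertible_tensorPow hL.1 2) (e * d)) (isInvertible_tensorPow hP (e * d))),
    mk_tensorPow hN.1, ← mk_mul_mk (isInvertible_tensorPow (isInvertible_tensorPow hL.1 2) (e * d))
      (isInvertible_tensorPow hP (e * d)), mk_tensorPow (isInvertible_tensorPow hL.1 2), mk_tensorPow hL.1,
    mk_tensorPow hP]
  have h1 : mk (o1 i (gr g)) hN.1 = pull (gr g) (mk (box X L) hA.1) ^ e := by
    rw [← map_pow, ← mk_tensorPow hA.1, pull_mk]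
    exact (mk_congr ψ).symm
  have h2 : pull g.left (mk L hL.1) = mk L hL.1 * mk P hP := by
    rw [pull_mk, mk_mul_mk hL.1 hP]
    exact (mk_eq_iff _ _).2 hg
  rw [h1, pull_gr_box X hL.1, h2, ← pow_mul, ← _root_.mul_assoc, mul_pow, ← pow_two]

end Chi

/-- The automorphisms fixing an ample class up to twists `τ`-equivalent to zero fall into finitely many classes modulo
deformation. -/
theorem exists_finite [IsAlgClosed k] [IsIntegral X.left] [IsProper X.hom] {L : X.left.Modules}
    (hL : CohB1.IsAmple L) {J : Type w} (g : J → (X ≅ X)) (P : J → X.left.Modules)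
    (hP : ∀ j, PicF.IsInvertible (P j)) (hτ : ∀ j, @Pic13.IsTauEquivZero k _ X.left ⟨X.hom⟩ (P j))
    (hg : ∀ j, Nonempty ((Scheme.Modules.pullback (g j).hom.left).obj L ≅ CohB1.tensorMod L (P j))) :
    ∃ (n : ℕ) (s : Fin n → J), ∀ j, ∃ (i : Fin n) (T : Over (Spec (CommRingCat.of k)))
      (_ : ConnectedSpace ↥T.left) (_ : LocallyOfFiniteType T.hom) (_ : QuasiCompact T.hom) (φ : X ⊗ T ≅ X ⊗ T)
      (t₀ t₁ : 𝟙_ (Over (Spec (CommRingCat.of k))) ⟶ T),
      φ.hom ≫ snd X T = snd X T ∧
      lift (𝟙 X) (toUnit X ≫ t₀) ≫ φ.hom ≫ fst X T = (g (s i)).hom ∧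
      lift (𝟙 X) (toUnit X ≫ t₁) ≫ φ.hom ≫ fst X T = (g j).hom := by
  rcases isEmpty_or_nonempty J with hJ | hJ
  · exact ⟨0, Fin.elim0, fun j => (hJ.false j).elim⟩
  let _ : X.left.Over (Spec (CommRingCat.of k)) := ⟨X.hom⟩
  have hpr : IsProper (X.left ↘ Spec (CommRingCat.of k)) := ‹IsProper X.hom›
  obtain ⟨e, n, i, he, hi, hi', hφ⟩ := exists_embedding X hL
  obtain ⟨r, hr⟩ := exists_dim_le k (X := X.left)
  have hcl : ∀ j, IsClosedImmersion (gr (g j).hom) := fun j => isClosedImmersion_gr X (g j).hom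
  obtain ⟨H, Z, z, hH, hz, hzp, hzf, hex⟩ := exists_family i (fun j => gr (g j).hom) (fun j => by
    rw [hi', ← Category.assoc, pullback.lift_fst]
    exact Category.id_comp _) (fun j j' => by
    obtain ⟨D, hD⟩ := exists_finrank_eq i hL he hφ hr (g j).hom (hP j) (hτ j) (hg j)
    obtain ⟨D', hD'⟩ := exists_finrank_eq i hL he hφ hr (g j').hom (hP j') (hτ j') (hg j')
    refine ⟨max D D', fun d hd => ?_⟩
    have h1 := hD d (by omega)
    rw [← hD' d (by omega)] at h1
    exact_mod_cast h1)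
  choose t a ht ha ha' using hex
  let Zo : Over (Spec (CommRingCat.of k)) := Over.mk ((z ≫ pullback.snd (fX i) H.hom) ≫ H.hom)
  let π : Zo ⟶ H := Over.homMk (z ≫ pullback.snd (fX i) H.hom) rfl
  have hcond : (z ≫ pullback.fst (fX i) H.hom) ≫ pullback.fst X.hom X.hom ≫ X.hom =
      (z ≫ pullback.snd (fX i) H.hom) ≫ H.hom := by
    rw [← hi', Category.assoc, Category.assoc, pullback.condition]
  let ζ₁ : Zo ⟶ X := Over.homMk ((z ≫ pullback.fst (fX i) H.hom) ≫ pullback.fst X.hom X.hom) (by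
    rw [Category.assoc]
    exact hcond)
  let ζ₂ : Zo ⟶ X := Over.homMk ((z ≫ pullback.fst (fX i) H.hom) ≫ pullback.snd X.hom X.hom) (by
    rw [Category.assoc, ← pullback.condition]
    exact hcond)
  let t' : J → (𝟙_ (Over (Spec (CommRingCat.of k))) ⟶ H) := fun j => Over.homMk (t j) (ht j)
  let a' : J → (X ⟶ Zo) := fun j => Over.homMk (a j) (by
    change a j ≫ (z ≫ pullback.snd (fX i) H.hom) ≫ H.hom = X.hom
    rw [← Category.assoc, (ha j).w, Category.assoc, ht]
    exact Category.comp_id _)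
  have hπ1 : IsProper π.left := hzp
  have hπ2 : Flat π.left := hzf
  have hft : LocallyOfFiniteType H.hom := inferInstance
  have hqc : QuasiCompact H.hom := inferInstance
  refine AutSpread.exists_finite π ζ₁ ζ₂ g t' a' (fun j => ha j) (fun j => ?_) (fun j => ?_)
  · apply Over.OverMorphism.ext
    change a j ≫ (z ≫ pullback.fst (fX i) H.hom) ≫ pullback.fst X.hom X.hom = 𝟙 _
    rw [← Category.assoc, ha' j, pullback.lift_fst]
  · apply Over.OverMorphism.ext
    change a j ≫ (z ≫ pullback.fst (fX i) H.hom) ≫ pullback.snd X.hom X.hom = _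
    rw [← Category.assoc, ha' j, pullback.lift_snd]

end K409.AutHilb
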