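import Groth.Agent.Sga3B.RootHomDict
import Groth.Agent.Sga3B.DSPts
import Groth.Agent.Sga3B.TorusAlgClosed
import Mathlib.LinearAlgebra.SymmetricAlgebra.Basis
import Mathlib.AlgebraicGeometry.Morphisms.FiniteType

/-!
# Homomorphisms from the additive group to a torus are trivial

* `ga_to_DS_eq_one`: over a field, a homomorphism from `𝔾_a` to `D(M)` is trivial.
* `ga_to_torus_eq_one`: over an algebraically closed field, a homomorphism from `𝔾_a` to a torus is trivial.
-/

set_option autoImplicit false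
universe u
open CategoryTheory MonoidalCategory CartesianMonoidalCategory MonObj GrpObj AlgebraicGeometry Limits
open scoped Polynomial

namespace K409.GaTorus

open Groth.Agent.Books.AffBridge Groth.Agent.Books.DynBasic Groth.Agent.Sga3B.AffPts
open Groth.Agent.Sga3B.RootHomDict Groth.Agent.Sga3B.DSPts

variable {K : Type u} [Field K]

/-- The additive group is of finite type. -/
lemma lft_ga (S : Scheme.{u}) : LocallyOfFiniteType (Red.Ga S).hom := by
  have h : LocallyOfFiniteType (Red.GaZ.{u}).hom := by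
    change LocallyOfFiniteType (Spec.map (CommRingCat.ofHom
      (algebraMap (ULift.{u} ℤ) (SymmetricAlgebra (ULift.{u} ℤ) (ULift.{u} ℤ)))))
    rw [HasRingHomProperty.Spec_iff (P := @LocallyOfFiniteType)]
    change RingHom.FiniteType (algebraMap (ULift.{u} ℤ) (SymmetricAlgebra (ULift.{u} ℤ) (ULift.{u} ℤ)))
    rw [RingHom.finiteType_algebraMap]
    exact Algebra.FiniteType.equiv inferInstance
      (SymmetricAlgebra.equivMvPolynomial (Module.Basis.singleton Unit (ULift.{u} ℤ))).symm
  change LocallyOfFiniteType (pullback.snd _ _)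
  infer_instance

/-- The additive group is quasi-compact. -/
lemma qc_ga (S : Scheme.{u}) : QuasiCompact (Red.Ga S).hom := by
  have h : QuasiCompact (Red.GaZ.{u}).hom := by
    change QuasiCompact (Spec.map (CommRingCat.ofHom
      (algebraMap (ULift.{u} ℤ) (SymmetricAlgebra (ULift.{u} ℤ) (ULift.{u} ℤ)))))
    infer_instance
  change QuasiCompact (pullback.snd _ _)
  infer_instance

lemma dsChar_one' {S : Scheme.{u}} {T : Over S} {M : Type} [AddCommGroup M] :
    dsChar (1 : T ⟶ Red.DS S M) = 1 := by simp [dsChar]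

/-- Every unit on the additive group over a field is a constant. -/
lemma unit_const (x : Fn (SpecOver K K[X])) (hx : IsUnit x) :
    ∃ c : K, x = algebraMap K (Fn (SpecOver K K[X])) c := by
  have h1 : IsUnit (fnSpec (R := K) K[X] x) := hx.map (fnSpec (R := K) K[X])
  obtain ⟨c, -, hc⟩ := Polynomial.isUnit_iff.1 h1
  refine ⟨c, ?_⟩
  apply (fnSpec (R := K) K[X]).injective
  rw [← hc, AlgEquiv.commutes]
  rfl

theorem ga_to_DS_eq_one (M : Type) [AddCommGroup M]
    (f : Red.Ga (Spec (CommRingCat.of K)) ⟶ Red.DS (Spec (CommRingCat.of K)) M) [IsMonHom f] : f = 1 := by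
  have e0 : (gaTo : Red.Ga (Spec (CommRingCat.of K)) ⟶ _) ≫ gaFrom = 𝟙 _ := gaTo_gaFrom
  suffices h : (gaFrom : _ ⟶ Red.Ga (Spec (CommRingCat.of K))) ≫ f = 1 by
    have : f = (gaTo : Red.Ga (Spec (CommRingCat.of K)) ⟶ _) ≫ gaFrom ≫ f := by
      rw [← Category.assoc, e0, Category.id_comp]
    rw [this, h, MonObj.comp_one]
  have h1 : dsChar ((gaFrom : _ ⟶ Red.Ga (Spec (CommRingCat.of K))) ≫ f) = 1 := by
    ext m
    set P : Over (Spec (CommRingCat.of K)) := SpecOver K K[X] with hP
    set g : P ⟶ Red.DS (Spec (CommRingCat.of K)) M := gaFrom ≫ f with hg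
    let x : 𝟙_ (Over (Spec (CommRingCat.of K))) ⟶ P := η[Red.Ga (Spec (CommRingCat.of K))] ≫ gaTo
    have hx : x ≫ g = 1 := by
      change (η[Red.Ga (Spec (CommRingCat.of K))] ≫ gaTo) ≫ gaFrom ≫ f = 1
      have h0 : (η[Red.Ga (Spec (CommRingCat.of K))] ≫ gaTo) ≫ gaFrom ≫ f =
          η[Red.Ga (Spec (CommRingCat.of K))] ≫ f := by
        rw [Category.assoc, ← Category.assoc gaTo, e0, Category.id_comp]
      have h1 : η[Red.Ga (Spec (CommRingCat.of K))] ≫ f = η := IsMonHom.one_hom (f := f)
      rw [h0, h1, Hom.one_def, toUnit_unique (toUnit _) (𝟙 _), Category.id_comp]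
    have hu : IsUnit (dsChar g m : Γ(P.left, ⊤)) := (Group.isUnit (α := Multiplicative M) m).map (dsChar g)
    obtain ⟨c, hc⟩ := unit_const (K := K) (dsChar g m) hu
    have h2 : fnMap x (dsChar g m) = (1 : Fn (𝟙_ (Over (Spec (CommRingCat.of K))))) := by
      have := congrArg (fun χ : Multiplicative M →* Γ((𝟙_ (Over (Spec (CommRingCat.of K)))).left, ⊤) => χ m)
        (dsChar_comp x g)
      simp only [hx, dsChar_one'] at this
      exact this.symm
    have h3 : algebraMap K (Fn (𝟙_ (Over (Spec (CommRingCat.of K))))) c = 1 := by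
      rw [← h2]
      have := (fnMap x).commutes c
      rw [← this]
      exact congrArg (fnMap x) hc.symm
    have hnt : Nontrivial (Fn (𝟙_ (Over (Spec (CommRingCat.of K))))) := by
      change Nontrivial Γ(Spec (CommRingCat.of K), ⊤)
      infer_instance
    have hc1 : c = 1 := by
      apply (algebraMap K (Fn (𝟙_ (Over (Spec (CommRingCat.of K)))))).injective
      rw [h3, map_one]
    rw [hc1, map_one] at hc
    exact hc
  have h2 := congrArg (dsEquiv _ M) h1
  rw [dsEquiv_dsChar, map_one] at h2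
  exact h2

theorem ga_to_torus_eq_one [IsAlgClosed K] {T : Over (Spec (CommRingCat.of K))} [GrpObj T]
    (hT : Red.IsTorus T) (f : Red.Ga (Spec (CommRingCat.of K)) ⟶ T) [IsMonHom f] : f = 1 := by
  obtain ⟨r, ⟨e⟩⟩ := Groth.Agent.Sga3B.TorusAlgClosed.exists_isSplitTorusWith hT
  let e' : T ≅ Red.DS (Spec (CommRingCat.of K)) (Fin r → ℤ) := (Grp.forget _).mapIso e
  have he : IsMonHom e'.hom := by
    change IsMonHom e.hom.hom.hom
    infer_instance
  have h := ga_to_DS_eq_one (K := K) (Fin r → ℤ) (f ≫ e'.hom)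
  rw [← cancel_mono e'.hom, h]
  simp

end K409.GaTorus
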