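import Groth.Agent.AlgGrp.K409.HilbRep

/-!
# A family of closed subschemes containing all closed immersions with the same Hilbert function
-/

set_option autoImplicit false
universe u v w

open CategoryTheory CategoryTheory.Limits AlgebraicGeometry MvPolynomial Opposite TopologicalSpace

namespace K409.HilbFam

open Groth.Agent Groth.Agent.Fga Groth.Agent.Fga.QA0 Groth.Agent.Fga.QTDefs Groth.Agent.Fga.QT4b
open Groth.Agent.Fga.QD1Alg Groth.Agent.Fga.QD1Sch Groth.Agent.Fga.QD1Hilb Groth.Agent.Fga.NoethRep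
open Groth.Agent.Fga.HilbFun Groth.Agent.Fga.HilbAsm1 Groth.Agent.Fga.HilbAsm2 Groth.Agent.Fga.HilbClosed
open Groth.Agent.CohqB.ProjBC HilbKer HilbPt HilbLine HilbHom HilbRep

variable {k : Type u} [Field k] {n : ℕ} {Y X : Scheme.{u}} [X.Over (Spec (CommRingCat.of k))]
  (i : Y ⟶ CohB1.ProjSpaceOver n (Spec (CommRingCat.of k)))

/-- The pull back of `O(1)`. -/
noncomputable abbrev o1 (γ : X ⟶ Y) : X.Modules :=
  (Scheme.Modules.pullback (γ ≫ i ≫ fstZ n _)).obj (Twist.twistProjSpace n (ULift.{u} ℤ) 1)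

/-- The Hilbert function of the point given by a closed immersion. -/
theorem exists_h_pt [IsClosedImmersion i] (γ : X ⟶ Y) [IsClosedImmersion γ]
    (hq : γ ≫ fX i = X ↘ Spec (CommRingCat.of k)) [IsProper (X ↘ Spec (CommRingCat.of k))] :
    haveI : Flat (X ↘ Spec (CommRingCat.of k)) := inferInstance
    ∃ D : ℕ, ∀ d : ℕ, D ≤ d → QA1.h (KX i (𝟙 (Spec (CommRingCat.of k))) (pt i γ (X ↘ Spec (CommRingCat.of k)) hq)) d =
      Module.finrank k (Coh.HH X (CohB1.tensorPow (o1 i γ) d) 0) := by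
  rw [KX_pt]
  refine exists_h_eq (jj i γ (X ↘ Spec (CommRingCat.of k)) hq) (jj_toSpec i γ _ hq) ?_
  rw [jj_pk]
  exact trivs_pull _

/-- All closed immersions with the same Hilbert function occur in one flat family. -/
theorem exists_family [IsClosedImmersion i] [IsProper (X ↘ Spec (CommRingCat.of k))] {J : Type w} [Nonempty J]
    (γ : J → (X ⟶ Y)) [∀ j, IsClosedImmersion (γ j)] (hγ : ∀ j, γ j ≫ fX i = X ↘ Spec (CommRingCat.of k))
    (hχ : ∀ j j' : J, ∃ D : ℕ, ∀ d : ℕ, D ≤ d → Module.finrank k (Coh.HH X (CohB1.tensorPow (o1 i (γ j)) d) 0) =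
      Module.finrank k (Coh.HH X (CohB1.tensorPow (o1 i (γ j')) d) 0)) :
    ∃ (H : Over (Spec (CommRingCat.of k))) (Z : Scheme.{u}) (z : Z ⟶ pullback (fX i) H.hom),
      IsProper H.hom ∧ IsClosedImmersion z ∧ IsProper (z ≫ pullback.snd (fX i) H.hom) ∧
      Flat (z ≫ pullback.snd (fX i) H.hom) ∧
      ∀ j, ∃ (t : Spec (CommRingCat.of k) ⟶ H.left) (a : X ⟶ Z), t ≫ H.hom = 𝟙 _ ∧
        IsPullback a (X ↘ Spec (CommRingCat.of k)) (z ≫ pullback.snd (fX i) H.hom) t ∧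
        a ≫ z ≫ pullback.fst (fX i) H.hom = γ j := by
  obtain ⟨j₀⟩ := ‹Nonempty J›
  have hfl : Flat (X ↘ Spec (CommRingCat.of k)) := inferInstance
  have hq := KX_isQuotPt i (𝟙 (Spec (CommRingCat.of k))) (pt i (γ j₀) (X ↘ Spec (CommRingCat.of k)) (hγ j₀))
  obtain ⟨Φ, hΦ, ⟨D, hD⟩, -⟩ := QA2.field_main hq.isHom hq.isSat
  rw [Fintype.card_fin] at hΦ
  obtain ⟨H, Z, hH, hex⟩ := exists_hilb i Φ hΦ
  refine ⟨H, Z.1.subscheme, Z.1.subschemeι, hH, inferInstance, Z.2.1, Z.2.2, fun j => ?_⟩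
  obtain ⟨D₁, hD₁⟩ := exists_h_pt i (γ j₀) (hγ j₀)
  obtain ⟨D₂, hD₂⟩ := exists_h_pt i (γ j) (hγ j)
  obtain ⟨D₃, hD₃⟩ := hχ j j₀
  obtain ⟨t, ht⟩ := hex (pt i (γ j) (X ↘ Spec (CommRingCat.of k)) (hγ j)) ⟨max (max D D₁) (max D₂ D₃), fun d hd => by
    rw [hD₂ d (by omega), hD₃ d (by omega), ← hD₁ d (by omega), hD d (by omega)]⟩
  have h1 := Picfga.HilbPull.isPullback_pull (fX i) t Z.1
  have h2 : HilbD.pull (fX i) t Z.1 = (γT i (γ j) (X ↘ Spec (CommRingCat.of k)) (hγ j)).ker := ht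
  rw [h2] at h1
  obtain ⟨m, hm⟩ := h1
  have hcl := isClosedImmersion_γT i (γ j) (X ↘ Spec (CommRingCat.of k)) (hγ j)
  obtain ⟨e, he⟩ := iso_ker (γT i (γ j) (X ↘ Spec (CommRingCat.of k)) (hγ j))
  have hw : t.left ≫ H.hom = 𝟙 _ := Over.w t
  refine ⟨t.left, e.hom ≫ m, hw, ?_, ?_⟩
  · have h3 : IsPullback e.hom (γT i (γ j) (X ↘ Spec (CommRingCat.of k)) (hγ j))
        (γT i (γ j) (X ↘ Spec (CommRingCat.of k)) (hγ j)).ker.subschemeι (𝟙 _) :=
      IsPullback.of_horiz_isIso ⟨by rw [he, Category.comp_id]⟩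
    have h4 := (h3.paste_horiz hm).paste_vert (Picfga.HilbPull.isPullback_XTmap (fX i) t)
    have h5 := toXT_proj (hw0 i (γ j) (X ↘ Spec (CommRingCat.of k)) (hγ j))
    rw [h5] at h4
    exact h4
  · have h6 : (e.hom ≫ m) ≫ Z.1.subschemeι = γT i (γ j) (X ↘ Spec (CommRingCat.of k)) (hγ j) ≫ PicF.XTmap (fX i) t := by
      rw [Category.assoc, hm.w, ← Category.assoc, he]
    rw [← Category.assoc, h6, Category.assoc, Picfga.HilbPull.XTmap_fst]
    exact toXT_fst (hw0 i (γ j) (X ↘ Spec (CommRingCat.of k)) (hγ j))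

end K409.HilbFam
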