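import Groth.Agent.Fga.QT8Map
import Groth.Agent.Picfga.FamProj
import Groth.Agent.Picfga.ChiCech
import Groth.Agent.CurvesC.ProjSpaceBasic
import Groth.Agent.Fdesc.StructMod
import Groth.Agent.Fga.QD1Hilb
import Groth.Agent.CohqB.P1Charts

/-!
# The Hilbert function of a closed subscheme of projective space and sections of powers of `O(1)`
-/

set_option autoImplicit false
universe u v

open CategoryTheory CategoryTheory.Limits AlgebraicGeometry MvPolynomial Opposite TopologicalSpace

namespace K409.HilbLine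

open Groth.Agent Groth.Agent.Fga Groth.Agent.Fga.QA0 Groth.Agent.Fga.QTDefs Groth.Agent.Fga.QT4 Groth.Agent.Fga.QT4b
open Groth.Agent.Fga.QT8 Groth.Agent.CurvesC.ProjSpaceBasic
open Groth.Agent.Fdesc.LocGen Groth.Agent.Flat2H.FamExt Groth.Agent.Flat2H.FamDict Groth.Agent.Picfga.Level

/-- The standard generators of `O(1)` on projective space. -/
theorem trivs_twist (n : ℕ) (R : Type u) [CommRing R] :
    Trivs (Twist.twistProjSpace n R 1) (Dp n R) (fun i j => ores inf_le_right (ratio n R j i)) := by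
  refine ⟨fun x => ?_, fun j => CurvesC.Gen.sec (T n R j) (Dp n R j), fun j => isGen_T n R j, fun i j => ?_⟩
  · have h0 : x ∈ ⨆ i, Dp n R i := by
      rw [iSup_Dp]
      trivial
    exact Opens.mem_iSup.1 h0
  · have h1 := congrArg (res (Twist.twistProjSpace n R 1) (inf_le_right : Dp n R i ⊓ Dp n R j ≤ Dp n R j))
      (ratio_smul n R j i)
    rw [res_smul] at h1
    rw [h1]
    exact (CurvesC.Gen.map_sec (T n R i) _).trans (CurvesC.Gen.map_sec (T n R i) _).symm

variable {n : ℕ} {Y : Scheme.{u}}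

/-- The standard generators of the pull back of `O(1)`. -/
theorem trivs_pull (g : Y ⟶ PZ n) :
    Trivs ((Scheme.Modules.pullback g).obj (Twist.twistProjSpace n (ULift.{u} ℤ) 1)) (V g)
      (fun i j => ores inf_le_right (y g j i)) := by
  have h := (trivs_twist n (ULift.{u} ℤ)).pullback g
  have h1 : (fun i j => g.app (Dp n (ULift.{u} ℤ) i ⊓ Dp n (ULift.{u} ℤ) j)
      (ores inf_le_right (ratio n (ULift.{u} ℤ) j i))) =
      fun i j => ores (inf_le_right : V g i ⊓ V g j ≤ V g j) (y g j i) := by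
    funext i j
    exact congr($(g.naturality (homOfLE (inf_le_right : Dp n (ULift.{u} ℤ) i ⊓ Dp n (ULift.{u} ℤ) j ≤
      Dp n (ULift.{u} ℤ) j)).op) (ratio n (ULift.{u} ℤ) j i))
  rw [h1] at h
  exact h

/-- The generating system of the structure module. -/
noncomputable def unitSys (g : Y ⟶ PZ n) : GenSys g (Coh.structureModule Y) Unit 0 where
  e i _ := (1 : Γ(Y, V g i))
  glue i k _ := by
    rw [pow_zero, one_smul]
    exact (map_one (resR (inf_le_left : V g i ⊓ V g k ≤ V g i))).trans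
      (map_one (resR (inf_le_right : V g i ⊓ V g k ≤ V g k))).symm

lemma smul_structureModule {U : Y.Opens} (a : Γ(Y, U)) (b : Γ(Coh.structureModule Y, U)) :
    a • b = (show Γ(Y, U) from a * (show Γ(Y, U) from b)) := rfl

lemma unitSys_gen (g : Y ⟶ PZ n) : (unitSys g).Gen := by
  intro i
  rw [eq_top_iff]
  intro t _
  have h1 : t = (show Γ(Y, V g i) from t) • (unitSys g).e i () := (mul_one (show Γ(Y, V g i) from t)).symm
  rw [h1]
  exact Submodule.smul_mem _ _ (Submodule.subset_span ⟨(), rfl⟩)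

section Field

variable {k : Type u} [Field k] {g : Y ⟶ PZ n} {q : Y ⟶ Spec (CommRingCat.of k)}

lemma sg_unit (i : Fin (n + 1)) (w : W (Fin (n + 1)) Unit k) :
    sg g q (unitSys g) i w = (show Γ(Y, V g i) from ev g q i (w ())) := by
  rw [sg_apply]
  rw [Fintype.sum_unique]
  change (show Γ(Y, V g i) from ev g q i (w ()) * 1) = _
  exact mul_one (show Γ(Y, V g i) from ev g q i (w ()))

/-- The cocycle of `O(1)`. -/
noncomputable abbrev cyc (g : Y ⟶ PZ n) (i j : Fin (n + 1)) : Γ(Y, V g i ⊓ V g j) := ores inf_le_right (y g j i)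

/-- Twisted sections as families. -/
noncomputable def twFam (g : Y ⟶ PZ n) (q : Y ⟶ Spec (CommRingCat.of k)) (d : ℕ) :
    TwSec g q (Coh.structureModule Y) d ≃ₗ[k] Fam q (V g) (cyc g) d where
  toFun m := ⟨fun i => (m.1 i : Γ(Y, V g i)), fun i j => by
    have h := glue_TwSec (O := V g i ⊓ V g j) m.2 (i := j) (k := i) inf_le_right inf_le_left
    rw [mul_comm]
    have h1 : ores (inf_le_right : V g i ⊓ V g j ≤ V g j) (m.1 j : Γ(Y, V g j)) =
        (resR (inf_le_right : V g i ⊓ V g j ≤ V g j) (y g j i)) ^ d *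
          ores (inf_le_left : V g i ⊓ V g j ≤ V g i) (m.1 i : Γ(Y, V g i)) := h
    exact h1.symm⟩
  invFun b := ⟨fun i => b.1 i, fun j i => by
    have h := congrArg (ores (le_of_eq (inf_comm (V g j) (V g i)))) (b.2 i j)
    rw [map_mul, map_pow, ores_ores, ores_ores, ores_ores, mul_comm] at h
    exact h.symm⟩
  left_inv m := rfl
  right_inv b := rfl
  map_add' a b := rfl
  map_smul' c m := by
    refine Fam.ext fun j => ?_
    rfl

/-- The Hilbert function in terms of sections of powers. -/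
theorem hilb_eq_finrank (k : Type u) [Field k] [Y.Over (Spec (CommRingCat.of k))] (g : Y ⟶ PZ n) {N : Y.Modules}
    (hN : Trivs N (V g) (cyc g)) (d : ℕ) :
    hilb g (Y ↘ Spec (CommRingCat.of k)) (Coh.structureModule Y) d =
      Module.finrank k (Coh.HH Y (CohB1.tensorPow N d) 0) := by
  obtain ⟨F, hF, hadd, hsmul⟩ := exists_famMap (Y ↘ Spec (CommRingCat.of k)) d (hN.tensorPow d)
  have h1 : ∀ (c : k) (m : Picfga.ChiCech.SecA k (CohB1.tensorPow N d) ⊤),
      F (show Γ(CohB1.tensorPow N d, ⊤) from (c • m)) = c • F (show Γ(CohB1.tensorPow N d, ⊤) from m) := by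
    intro c m
    have h2 := hsmul ((Scheme.ΓSpecIso (CommRingCat.of k)).inv.hom c) (show Γ(CohB1.tensorPow N d, ⊤) from m)
    have h3 : (Scheme.ΓSpecIso (CommRingCat.of k)).hom.hom ((Scheme.ΓSpecIso (CommRingCat.of k)).inv.hom c) = c := by
      change ((Scheme.ΓSpecIso (CommRingCat.of k)).inv ≫ (Scheme.ΓSpecIso (CommRingCat.of k)).hom).hom c = c
      rw [Iso.inv_hom_id]
      rfl
    rw [h3] at h2
    refine Eq.trans ?_ h2
    congr 1
    change (ores (le_top : (⊤ : Y.Opens) ≤ ⊤) (show Γ(Y, ⊤) from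
      Coh.toGlobal (Y ↘ Spec (CommRingCat.of k)) c)) • (show Γ(CohB1.tensorPow N d, ⊤) from m) = _
    rw [ores_refl]
    rfl
  let e : Picfga.ChiCech.SecA k (CohB1.tensorPow N d) ⊤ ≃ₗ[k] Fam (Y ↘ Spec (CommRingCat.of k)) (V g) (cyc g) d :=
    LinearEquiv.ofBijective
      ({ toFun := fun m => F (show Γ(CohB1.tensorPow N d, ⊤) from m), map_add' := hadd, map_smul' := h1 } :
        Picfga.ChiCech.SecA k (CohB1.tensorPow N d) ⊤ →ₗ[k] _) hF
  rw [hilb, ((twFam g (Y ↘ Spec (CommRingCat.of k)) d).trans e.symm).finrank_eq]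
  exact (Picfga.ChiCech.h0Top k (CohB1.tensorPow N d)).finrank_eq.symm

end Field

end K409.HilbLine
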