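import Groth.Agent.AlgGrp.K409.HilbPt
import Groth.Agent.AlgGrp.K409.HilbLine

/-!
# The Hilbert function of the point of the Hilbert functor given by a closed immersion
-/

set_option autoImplicit false
universe u v

open CategoryTheory CategoryTheory.Limits AlgebraicGeometry MvPolynomial Opposite TopologicalSpace

namespace K409.HilbHom

open Groth.Agent Groth.Agent.Fga Groth.Agent.Fga.QA0 Groth.Agent.Fga.QTDefs Groth.Agent.Fga.QT4b
open Groth.Agent.Fga.QD1Alg Groth.Agent.Fga.QD1Sch Groth.Agent.Fga.QD1Hilb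
open Groth.Agent.Fga.HilbFun Groth.Agent.Fga.HilbAsm1 Groth.Agent.Fga.HilbAsm2 Groth.Agent.Fga.HilbClosed
open Groth.Agent.CohqB.ProjBC HilbKer HilbPt HilbLine Groth.Agent.Fga.QT8
open Groth.Agent.Flat2H.FamDict

variable {k : Type u} [Field k] {n : ℕ} {X : Scheme.{u}}

theorem toPA_eq (j : X ⟶ CohB1.ProjSpace n k) :
    toPA (j ≫ pk n k) (j ≫ CohB1.ProjSpace.toSpec n k) = j ≫ (projSpaceOverIso n k).inv := by
  apply (isPullback_fstZ n _).hom_ext
  · refine (pullback.lift_fst _ _ _).trans ?_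
    rw [Category.assoc]
    exact congrArg (j ≫ ·) (projSpaceOverIso_inv_fstZ k).symm
  · refine (pullback.lift_snd _ _ _).trans ?_
    rw [Category.assoc]
    exact congrArg (j ≫ ·) (projSpaceOverIso_inv_toBase n k).symm

instance isClosedImmersion_toPA (j : X ⟶ CohB1.ProjSpace n k) [IsClosedImmersion j] :
    IsClosedImmersion (toPA (j ≫ pk n k) (j ≫ CohB1.ProjSpace.toSpec n k)) := by
  rw [toPA_eq]
  infer_instance

/-- The graded submodule of a closed subscheme. -/
theorem toW_hI_ker (j : X ⟶ CohB1.ProjSpace n k) [IsClosedImmersion j] :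
    toW (hI j.ker) = grSub (j ≫ pk n k) (j ≫ CohB1.ProjSpace.toSpec n k) (unitSys (j ≫ pk n k)) ⊥ := by
  ext w
  rw [(isHom_toW.2 (isHom_hI j.ker)).mem_iff, mem_grSub]
  refine forall_congr' fun d => ?_
  rw [mem_toW, hI, mem_glob_of_homogeneous (comp_mem (A := k) d w ())]
  refine forall_congr' fun i => ?_
  rw [chartHom_mem_iff, QT8.mem_secSub_bot, sg_unit]
  rfl

/-- The Hilbert function of a closed subscheme is given by the sections of the powers of `O(1)`. -/
theorem exists_h_eq [X.Over (Spec (CommRingCat.of k))] (j : X ⟶ CohB1.ProjSpace n k) [IsClosedImmersion j]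
    (hj : j ≫ CohB1.ProjSpace.toSpec n k = X ↘ Spec (CommRingCat.of k)) {N : X.Modules}
    (hN : Trivs N (V (j ≫ pk n k)) (cyc (j ≫ pk n k))) :
    ∃ D : ℕ, ∀ d : ℕ, D ≤ d → QA1.h (toW (hI j.ker)) d = Module.finrank k (Coh.HH X (CohB1.tensorPow N d) 0) := by
  obtain ⟨Φ, -, -, h3⟩ := QA2.field_main (K := toW (hI j.ker)) (isHom_toW.2 (isHom_hI _)) (isSat_toW.2 (isSat_hI _))
  refine ⟨QA1.bd (Fintype.card (Fin (n + 1))) Φ, fun d hd => ?_⟩
  have h4 := (h3 d hd).2.2
  rw [toW_hI_ker] at h4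
  have h5 := hilb_eq_of_H1 (unitSys (j ≫ pk n k)) (Fdesc.StructMod.isQCoh_structureModule X) (unitSys_gen _) h4
  rw [toW_hI_ker, ← h5]
  have h6 : hilb (j ≫ pk n k) (j ≫ CohB1.ProjSpace.toSpec n k) (Coh.structureModule X) (d + 0) =
      hilb (j ≫ pk n k) (X ↘ Spec (CommRingCat.of k)) (Coh.structureModule X) d := by rw [hj, add_zero]
  rw [h6, hilb_eq_finrank k _ hN]

end K409.HilbHom
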