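import Groth.Agent.Fga.QD1Hilb
import Groth.Agent.Fga.QT4b
import Groth.Agent.CohqB.P1Charts

/-!
# The homogeneous ideal of a closed subscheme of projective space and evaluation on the charts
-/

set_option autoImplicit false
universe u v

open CategoryTheory CategoryTheory.Limits AlgebraicGeometry MvPolynomial Opposite TopologicalSpace

namespace K409.HilbKer

open Groth.Agent Groth.Agent.Fga Groth.Agent.Fga.QA0 Groth.Agent.Fga.QTDefs Groth.Agent.Fga.QT4b
open Groth.Agent.Fga.QD1Alg Groth.Agent.Fga.QD1Sch Groth.Agent.Fga.QD1Hilb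
open Groth.Agent.CohqB.ProjBC

variable {n : ℕ} {k : Type u} [CommRing k]

/-- `P^n_k ⟶ P^n_ℤ`. -/
noncomputable abbrev pk (n : ℕ) (k : Type u) [CommRing k] : CohB1.ProjSpace n k ⟶ PZ n := pmap (zHom k) n

/-- The ideal of a kernel in a chart. -/
theorem mem_chI_ker {X : Scheme.{u}} (j : X ⟶ CohB1.ProjSpace n k) [IsClosedImmersion j] (i : Fin (n + 1))
    (z : Rc n k i) :
    z ∈ chI j.ker i ↔ (pullback.fst (chartι n i) j).appTop.hom
      ((Scheme.ΓSpecIso (CommRingCat.of (Rc n k i))).inv.hom z) = 0 := by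
  have h1 : j.ker.comap (chartι n i) = (pullback.fst (chartι n i) j).ker :=
    (Scheme.IdealSheafData.ker_fst_of_isClosedImmersion j (chartι n i)).symm
  unfold chI toI
  rw [h1, Scheme.Hom.ker_apply]
  constructor
  · intro h
    rw [Ideal.mem_map_iff_of_surjective _
      (ConcreteCategory.bijective_of_isIso (Scheme.ΓSpecIso (CommRingCat.of (Rc n k i))).hom).2] at h
    obtain ⟨w, hw, rfl⟩ := h
    have h2 : (Scheme.ΓSpecIso (CommRingCat.of (Rc n k i))).inv.hom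
        ((Scheme.ΓSpecIso (CommRingCat.of (Rc n k i))).hom.hom w) = w :=
      congr($((Scheme.ΓSpecIso (CommRingCat.of (Rc n k i))).hom_inv_id) w)
    rw [h2]
    exact hw
  · intro h
    have h2 : (Scheme.ΓSpecIso (CommRingCat.of (Rc n k i))).hom.hom
        ((Scheme.ΓSpecIso (CommRingCat.of (Rc n k i))).inv.hom z) = z :=
      congr($((Scheme.ΓSpecIso (CommRingCat.of (Rc n k i))).inv_hom_id) z)
    rw [← h2]
    exact Ideal.mem_map_of_mem _ h

/-- The `i`-th chart of projective space, over `ℤ`. -/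
noncomputable abbrev gc (n : ℕ) (k : Type u) [CommRing k] (i : Fin (n + 1)) :
    Spec (CommRingCat.of (Rc n k i)) ⟶ PZ n := chartι n i ≫ pk n k

lemma resR_comp {Y : Scheme.{u}} {U V Z : Y.Opens} (h : V ≤ U) (h' : Z ≤ V) (s : Γ(Y, U)) :
    resR h' (resR h s) = resR (h'.trans h) s := by
  change (Y.presheaf.map (homOfLE h).op ≫ Y.presheaf.map (homOfLE h').op).hom s = _
  rw [← Y.presheaf.map_comp]
  rfl

lemma resR_self {Y : Scheme.{u}} {U : Y.Opens} (h : U ≤ U) (s : Γ(Y, U)) : resR h s = s := by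
  change (Y.presheaf.map (𝟙 _)).hom s = s
  rw [Y.presheaf.map_id]
  rfl

lemma resR_top_injective {Y : Scheme.{u}} {U : Y.Opens} (h : ⊤ ≤ U) : Function.Injective (resR h) := by
  intro a b hab
  have h1 := congrArg (resR (le_top : U ≤ ⊤)) hab
  rwa [resR_comp, resR_comp, resR_self, resR_self] at h1

lemma appLE_congr {X Y : Scheme.{u}} {f g : X ⟶ Y} (h : f = g) (U : Y.Opens) (V : X.Opens) (e : V ≤ f ⁻¹ᵁ U)
    (e' : V ≤ g ⁻¹ᵁ U) : f.appLE U V e = g.appLE U V e' := by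
  subst h
  rfl

theorem gc_eq (i : Fin (n + 1)) :
    gc n k i = Spec.map (CommRingCat.ofHom (cmap (zHom k) i)) ≫ chartι n i := chartι_pmap _ i

theorem le_V_chartι (i : Fin (n + 1)) : (⊤ : (Spec (CommRingCat.of (Rc n (ULift.{u} ℤ) i))).Opens) ≤
    chartι n i ⁻¹ᵁ (CurvesC.ProjSpaceBasic.Dp n (ULift.{u} ℤ) i) := by
  have h := CohqB.P1Charts.opensRange_chartι n (ULift.{u} ℤ) i
  have h1 : CurvesC.ProjSpaceBasic.Dp n (ULift.{u} ℤ) i = (chartι (A := ULift.{u} ℤ) n i).opensRange := h.symm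
  rw [h1, Scheme.Hom.preimage_opensRange]

theorem le_V_gc (i : Fin (n + 1)) : (⊤ : (Spec (CommRingCat.of (Rc n k i))).Opens) ≤ V (gc n k i) i := by
  have h1 : V (gc n k i) i = Spec.map (CommRingCat.ofHom (cmap (zHom k) i)) ⁻¹ᵁ
      (chartι n i ⁻¹ᵁ (CurvesC.ProjSpaceBasic.Dp n (ULift.{u} ℤ) i)) := by
    rw [V, gc_eq]
    rfl
  rw [h1]
  intro x _
  exact le_V_chartι i trivial

theorem res_y_gc (i l : Fin (n + 1)) : resR (le_V_gc i) (y (gc n k i) i l) =
    (Scheme.ΓSpecIso (CommRingCat.of (Rc n k i))).inv.hom (chartHom n i (X l)) := by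
  have h1 : resR (le_V_gc i) (y (gc n k i) i l) = ((gc n k i).appLE (CurvesC.ProjSpaceBasic.Dp n (ULift.{u} ℤ) i) ⊤
      (le_V_gc i)).hom (CurvesC.ProjSpaceBasic.ratio n (ULift.{u} ℤ) i l) := rfl
  have h2 : (gc n k i).appLE (CurvesC.ProjSpaceBasic.Dp n (ULift.{u} ℤ) i) ⊤ (le_V_gc i) =
      (chartι n i).appLE (CurvesC.ProjSpaceBasic.Dp n (ULift.{u} ℤ) i) ⊤ (le_V_chartι i) ≫
        (Spec.map (CommRingCat.ofHom (cmap (zHom k) i))).appLE ⊤ ⊤ le_top := by
    refine (appLE_congr (gc_eq i) _ _ _ ?_).trans (Scheme.Hom.appLE_comp_appLE _ _ _ _ _ _ _).symm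
    exact (le_V_gc i).trans (by rw [V, gc_eq])
  have h3 := CohqB.P1Charts.sec_chartι n (ULift.{u} ℤ) i
  have h4 : ((chartι n i).appLE (CurvesC.ProjSpaceBasic.Dp n (ULift.{u} ℤ) i) ⊤ (le_V_chartι i)).hom
      (CurvesC.ProjSpaceBasic.ratio n (ULift.{u} ℤ) i l) =
      (Scheme.ΓSpecIso (CommRingCat.of (Rc n (ULift.{u} ℤ) i))).inv.hom (chartHom n i (X l)) := by
    rw [chartHom_X]
    exact congr(($h3).hom (CohqB.P1Charts.frac n (ULift.{u} ℤ) i l))
  have h5 : (Spec.map (CommRingCat.ofHom (cmap (zHom k) i))).appLE ⊤ ⊤ le_top =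
      (Spec.map (CommRingCat.ofHom (cmap (zHom k) i))).appTop := Scheme.Hom.appLE_eq_app _
  have h6 : (Spec.map (CommRingCat.ofHom (cmap (zHom k) i))).appTop.hom
      ((Scheme.ΓSpecIso (CommRingCat.of (Rc n (ULift.{u} ℤ) i))).inv.hom (chartHom n i (X l))) =
      (Scheme.ΓSpecIso (CommRingCat.of (Rc n k i))).inv.hom (cmap (zHom k) i (chartHom n i (X l))) :=
    congr(($(Scheme.ΓSpecIso_inv_naturality (CommRingCat.ofHom (cmap (zHom k) i)))).hom (chartHom n i (X l))).symm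
  rw [h1, h2, CommRingCat.hom_comp, RingHom.comp_apply, h4, h5, h6, cmap_chartHom, MvPolynomial.map_X]

theorem ev_gc (i : Fin (n + 1)) (f : P n k) :
    resR (le_V_gc i) (ev (gc n k i) (chartι n i ≫ CohB1.ProjSpace.toSpec n k) i f) =
      (Scheme.ΓSpecIso (CommRingCat.of (Rc n k i))).inv.hom (chartHom n i f) := by
  have h : (resR (le_V_gc i)).comp (ev (gc n k i) (chartι n i ≫ CohB1.ProjSpace.toSpec n k) i) =
      (Scheme.ΓSpecIso (CommRingCat.of (Rc n k i))).inv.hom.comp (chartHom n i) := by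
    apply MvPolynomial.ringHom_ext
    · intro a
      rw [RingHom.comp_apply, RingHom.comp_apply, ev_C, chartHom_C]
      have h1 : resR (le_V_gc i) (QTDefs.coeff (chartι n i ≫ CohB1.ProjSpace.toSpec n k) (V (gc n k i) i) a) =
          (chartι n i ≫ CohB1.ProjSpace.toSpec n k).appTop.hom ((Scheme.ΓSpecIso (CommRingCat.of k)).inv.hom a) := by
        rw [QTDefs.coeff, RingHom.comp_apply, RingHom.comp_apply, resR_comp, resR_self]
      have h2 := chartι_toSpec (A := k) (n := n) i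
      rw [h1, h2]
      exact congr(($(Scheme.ΓSpecIso_inv_naturality (CommRingCat.ofHom (awayAlg (A := k) n (X i))))).hom a).symm
    · intro l
      rw [RingHom.comp_apply, RingHom.comp_apply, ev_X, res_y_gc]
  exact congr($h f)

theorem V_pk (i : Fin (n + 1)) : V (pk n k) i = Proj.basicOpen (CohB1.polyGrading n k) (X i) := by
  have h : pk n k ⁻¹ᵁ (Proj.basicOpen (CohB1.polyGrading n (ULift.{u} ℤ)) (X i)) =
      Proj.basicOpen (CohB1.polyGrading n k) (gmap (zHom k) n (MvPolynomial.X i)) :=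
    Proj.map_preimage_basicOpen (gmap (zHom k) n) (irrelevant_le (zHom k) n) _
  refine h.trans ?_
  rw [gmap_apply, MvPolynomial.map_X]

theorem V_pk_le (i : Fin (n + 1)) : V (pk n k) i = (chartι (A := k) n i).opensRange :=
  (V_pk i).trans (CohqB.P1Charts.opensRange_chartι n k i).symm

theorem key {X Z : Scheme.{u}} (j : X ⟶ CohB1.ProjSpace n k) (i : Fin (n + 1))
    (p1 : Z ⟶ Spec (CommRingCat.of (Rc n k i))) (p2 : Z ⟶ X) [IsOpenImmersion p2]
    (hw : p1 ≫ chartι n i = p2 ≫ j) (hr : j ⁻¹ᵁ (V (pk n k) i) ≤ p2.opensRange) (f : P n k) :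
    p1.appTop.hom ((Scheme.ΓSpecIso (CommRingCat.of (Rc n k i))).inv.hom (chartHom n i f)) = 0 ↔
      ev (j ≫ pk n k) (j ≫ CohB1.ProjSpace.toSpec n k) i f = 0 := by
  rw [← ev_gc]
  have hV : (⊤ : Z.Opens) ≤ p1 ⁻¹ᵁ (V (gc n k i) i) := fun x _ => le_V_gc i trivial
  have h1 : p1.appTop.hom (resR (le_V_gc i) (ev (gc n k i) (chartι n i ≫ CohB1.ProjSpace.toSpec n k) i f)) =
      resR hV ((p1.app (V (gc n k i) i)).hom (ev (gc n k i) (chartι n i ≫ CohB1.ProjSpace.toSpec n k) i f)) :=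
    congr(($(p1.naturality (homOfLE (le_V_gc i)).op)).hom
      (ev (gc n k i) (chartι n i ≫ CohB1.ProjSpace.toSpec n k) i f))
  have h2 : (p1.app (V (gc n k i) i)).hom (ev (gc n k i) (chartι n i ≫ CohB1.ProjSpace.toSpec n k) i f) =
      ev (p1 ≫ gc n k i) (p1 ≫ chartι n i ≫ CohB1.ProjSpace.toSpec n k) i f :=
    (congr($(ev_comp n p1 (gc n k i) (chartι n i ≫ CohB1.ProjSpace.toSpec n k) i) f)).symm
  have h3 : ∀ (G : Z ⟶ PZ n) (Q : Z ⟶ Spec (CommRingCat.of k)) (_ : G = p2 ≫ j ≫ pk n k)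
      (_ : Q = p2 ≫ j ≫ CohB1.ProjSpace.toSpec n k),
      ev G Q i f = 0 ↔ ev (j ≫ pk n k) (j ≫ CohB1.ProjSpace.toSpec n k) i f = 0 := by
    rintro _ _ rfl rfl
    have h5 : ev (p2 ≫ j ≫ pk n k) (p2 ≫ j ≫ CohB1.ProjSpace.toSpec n k) i f =
        (p2.app (V (j ≫ pk n k) i)).hom (ev (j ≫ pk n k) (j ≫ CohB1.ProjSpace.toSpec n k) i f) :=
      congr($(ev_comp n p2 (j ≫ pk n k) (j ≫ CohB1.ProjSpace.toSpec n k) i) f)
    have h4 : IsIso (p2.app (V (j ≫ pk n k) i)) := p2.isIso_app _ hr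
    have h6 := map_eq_zero_iff (p2.app (V (j ≫ pk n k) i)).hom
      (ConcreteCategory.bijective_of_isIso (p2.app (V (j ≫ pk n k) i))).1
      (x := ev (j ≫ pk n k) (j ≫ CohB1.ProjSpace.toSpec n k) i f)
    exact (iff_of_eq (congrArg (· = 0) h5)).trans h6
  rw [h1, map_eq_zero_iff _ (resR_top_injective hV), h2]
  refine h3 _ _ ?_ ?_
  · rw [gc, ← Category.assoc, hw, Category.assoc]
  · rw [← Category.assoc, hw, Category.assoc]

theorem chartHom_mem_iff {X : Scheme.{u}} (j : X ⟶ CohB1.ProjSpace n k) [IsClosedImmersion j] (i : Fin (n + 1))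
    (f : P n k) : chartHom n i f ∈ chI j.ker i ↔
      ev (j ≫ pk n k) (j ≫ CohB1.ProjSpace.toSpec n k) i f = 0 := by
  rw [mem_chI_ker]
  refine key j i _ (pullback.snd (chartι (A := k) n i) j) pullback.condition ?_ f
  intro x hx
  change x ∈ Set.range (pullback.snd (chartι (A := k) n i) j)
  rw [Scheme.Pullback.range_snd]
  have h1 : j x ∈ V (pk n k) i := hx
  rw [V_pk_le] at h1
  exact h1

end K409.HilbKer
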