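import Groth.Agent.AlgGrp.K409.HilbKer
import Groth.Agent.Fga.HilbAsm2

/-!
# Closed subschemes as points of the Hilbert functor
-/

set_option autoImplicit false
universe u v

open CategoryTheory CategoryTheory.Limits AlgebraicGeometry MvPolynomial Opposite TopologicalSpace

namespace K409.HilbPt

open Groth.Agent Groth.Agent.Fga Groth.Agent.Fga.QA0 Groth.Agent.Fga.QTDefs Groth.Agent.Fga.QT4b
open Groth.Agent.Fga.QD1Alg Groth.Agent.Fga.QD1Sch Groth.Agent.Fga.QD1Hilb
open Groth.Agent.Fga.HilbFun Groth.Agent.Fga.HilbAsm1 Groth.Agent.Fga.HilbAsm2 Groth.Agent.Fga.HilbClosed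
open Groth.Agent.CohqB.ProjBC HilbKer

/-- The structure morphism from the subscheme of the kernel. -/
theorem iso_ker {X Y : Scheme.{u}} (j : X ⟶ Y) [IsClosedImmersion j] :
    ∃ e : X ≅ j.ker.subscheme, e.hom ≫ j.ker.subschemeι = j :=
  ⟨asIso j.toImage, j.toImage_imageι⟩

section

variable {S : Scheme.{u}} {Y : Scheme.{u}} (f : Y ⟶ S)

/-- The graph-like morphism to `Y ×_S T`. -/
noncomputable def toXT (T : Over S) {X : Scheme.{u}} (γ : X ⟶ Y) (q : X ⟶ T.left) (h : γ ≫ f = q ≫ T.hom) :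
    X ⟶ PicF.XT f T := pullback.lift γ q h

variable {f} {T : Over S} {X : Scheme.{u}} {γ : X ⟶ Y} {q : X ⟶ T.left} (h : γ ≫ f = q ≫ T.hom)

@[reassoc]
lemma toXT_fst : toXT f T γ q h ≫ pullback.fst f T.hom = γ := pullback.lift_fst _ _ _

@[reassoc]
lemma toXT_proj : toXT f T γ q h ≫ PicF.XTproj f T = q := pullback.lift_snd _ _ _

/-- The point of the Hilbert functor given by a closed immersion. -/
noncomputable def hpt [IsClosedImmersion (toXT f T γ q h)] [IsProper q] [Flat q] : FGA.HilbSet f T :=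
  ⟨(toXT f T γ q h).ker, by
    obtain ⟨e, he⟩ := iso_ker (toXT f T γ q h)
    have h1 : (toXT f T γ q h).ker.subschemeι ≫ PicF.XTproj f T = e.inv ≫ q := by
      rw [Iso.eq_inv_comp, ← Category.assoc, he, toXT_proj]
    rw [h1]
    exact ⟨inferInstance, inferInstance⟩⟩

end

section

variable {k : Type u} [Field k] {n : ℕ} {Y X : Scheme.{u}}
  (i : Y ⟶ CohB1.ProjSpaceOver n (Spec (CommRingCat.of k))) [IsClosedImmersion i]
  (γ : X ⟶ Y) (q : X ⟶ Spec (CommRingCat.of k)) (hq : γ ≫ fX i = q)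

/-- The base. -/
noncomputable abbrev T0 (k : Type u) [Field k] : Over (Spec (CommRingCat.of k)) :=
  Over.mk (𝟙 (Spec (CommRingCat.of k)))

include hq in
omit [IsClosedImmersion i] in
lemma hw0 : γ ≫ fX i = (show X ⟶ (T0 k).left from q) ≫ (T0 k).hom := by
  rw [hq]
  exact (Category.comp_id q).symm

/-- The morphism to `Y ×_k k`. -/
noncomputable abbrev γT : X ⟶ PicF.XT (fX i) (T0 k) := toXT (fX i) (T0 k) γ q (hw0 i γ q hq)

omit [IsClosedImmersion i] in
lemma isClosedImmersion_γT [IsClosedImmersion γ] : IsClosedImmersion (γT i γ q hq) := by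
  have h1 : IsIso (pullback.fst (fX i) (T0 k).hom) :=
    inferInstanceAs (IsIso (pullback.fst (fX i) (𝟙 (Spec (CommRingCat.of k)))))
  have h2 : γT i γ q hq = γ ≫ inv (pullback.fst (fX i) (T0 k).hom) := by
    rw [IsIso.eq_comp_inv, toXT_fst]
  rw [h2]
  infer_instance

/-- The closed immersion into projective space. -/
noncomputable def jj : X ⟶ CohB1.ProjSpace n k :=
  (γT i γ q hq ≫ cT i (CohB1.ProjSpaceOver.toBase n (Spec (CommRingCat.of k))) (T0 k)) ≫
    (xt n (𝟙 (Spec (CommRingCat.of k)))).inv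

theorem jj_pk : jj i γ q hq ≫ pk n k = γ ≫ i ≫ fstZ n _ := by
  have h1 := xt_hom_fst (n := n) (𝟙 (Spec (CommRingCat.of k)))
  have h2 : (xt n (𝟙 (Spec (CommRingCat.of k)))).inv ≫ pk n k =
      pullback.fst (CohB1.ProjSpaceOver.toBase n (Spec (CommRingCat.of k))) (T0 k).hom ≫ fstZ n _ := by
    rw [Iso.inv_comp_eq, ← Category.assoc]
    have h3 := congrArg (· ≫ fstZ n _) h1
    simp only [Category.assoc, overMap_fstZ] at h3
    rw [Category.assoc]
    exact ((h3).trans (projSpaceOverIso_inv_fstZ k)).symm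
  have h3 : cT i (CohB1.ProjSpaceOver.toBase n (Spec (CommRingCat.of k))) (T0 k) ≫
      pullback.fst (CohB1.ProjSpaceOver.toBase n (Spec (CommRingCat.of k))) (T0 k).hom =
        pullback.fst (fX i) (T0 k).hom ≫ i := cT_fst _ _ _
  unfold jj
  rw [Category.assoc, h2, Category.assoc, ← Category.assoc (cT _ _ _), h3, Category.assoc]
  exact congrArg (· ≫ i ≫ fstZ n _) (toXT_fst (hw0 i γ q hq))

theorem jj_toSpec : jj i γ q hq ≫ CohB1.ProjSpace.toSpec n k = q := by
  have h1 := xt_hom_proj (n := n) (𝟙 (Spec (CommRingCat.of k)))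
  have h2 : (xt n (𝟙 (Spec (CommRingCat.of k)))).inv ≫ CohB1.ProjSpace.toSpec n k =
      PicF.XTproj (CohB1.ProjSpaceOver.toBase n (Spec (CommRingCat.of k))) (T0 k) := by
    rw [Iso.inv_comp_eq]
    exact h1.symm
  unfold jj
  rw [Category.assoc, h2, Category.assoc, cT_proj]
  exact toXT_proj (hw0 i γ q hq)

instance isClosedImmersion_jj [IsClosedImmersion γ] : IsClosedImmersion (jj i γ q hq) := by
  have := isClosedImmersion_γT i γ q hq
  unfold jj
  infer_instance

/-- The point of the Hilbert functor. -/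
noncomputable def pt [IsClosedImmersion γ] [IsProper q] [Flat q] : (hilb (fX i)).obj (op (T0 k)) :=
  haveI := isClosedImmersion_γT i γ q hq
  toH _ (hpt (hw0 i γ q hq))

theorem idl_pt [IsClosedImmersion γ] [IsProper q] [Flat q] : idl (fX i) (pt i γ q hq) = (γT i γ q hq).ker := rfl

theorem KX_pt [IsClosedImmersion γ] [IsProper q] [Flat q] :
    KX i (𝟙 (Spec (CommRingCat.of k))) (pt i γ q hq) = toW (hI (jj i γ q hq).ker) := by
  have := isClosedImmersion_γT i γ q hq
  have h2 : ((γT i γ q hq).ker.map (cT i (CohB1.ProjSpaceOver.toBase n (Spec (CommRingCat.of k))) (T0 k))).comap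
      (xt n (𝟙 (Spec (CommRingCat.of k)))).hom = (jj i γ q hq).ker := by
    rw [Scheme.IdealSheafData.map_ker]
    have h3 : IsClosedImmersion (γT i γ q hq ≫
      cT i (CohB1.ProjSpaceOver.toBase n (Spec (CommRingCat.of k))) (T0 k)) := inferInstance
    rw [← Scheme.IdealSheafData.ker_fst_of_isClosedImmersion]
    have h4 : IsPullback (jj i γ q hq) (𝟙 X) (xt n (𝟙 (Spec (CommRingCat.of k)))).hom
        (γT i γ q hq ≫ cT i (CohB1.ProjSpaceOver.toBase n (Spec (CommRingCat.of k))) (T0 k)) := by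
      refine IsPullback.of_vert_isIso ⟨?_⟩
      unfold jj
      rw [Category.assoc, Iso.inv_hom_id, Category.comp_id, Category.id_comp]
    rw [← h4.isoPullback_inv_fst, Scheme.Hom.ker_comp_of_isIso]
  exact congrArg (fun z => toW (hI z)) h2

end

end K409.HilbPt
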