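import Groth.Agent.AlgGrp.K409.HilbHom
import Groth.Agent.Fga.RepQMain
import Groth.Agent.Fga.QG1

/-!
# The part of the Hilbert scheme with given Hilbert polynomial: rational points
-/

set_option autoImplicit false
universe u v

open CategoryTheory CategoryTheory.Limits AlgebraicGeometry MvPolynomial Opposite TopologicalSpace

namespace K409.HilbRep

open Groth.Agent Groth.Agent.Fga Groth.Agent.Fga.QA0 Groth.Agent.Fga.QTDefs Groth.Agent.Fga.QT4b
open Groth.Agent.Fga.QD1Alg Groth.Agent.Fga.QD1Sch Groth.Agent.Fga.QD1Hilb Groth.Agent.Fga.NoethRep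
open Groth.Agent.Fga.HilbFun Groth.Agent.Fga.HilbAsm1 Groth.Agent.Fga.HilbAsm2 Groth.Agent.Fga.HilbClosed
open Groth.Agent.CohqB.ProjBC HilbKer HilbPt HilbLine

variable {k : Type u} [Field k] {n : ℕ} {Y : Scheme.{u}}
  (i : Y ⟶ CohB1.ProjSpaceOver n (Spec (CommRingCat.of k))) [IsClosedImmersion i]

theorem fib_of_QX (Φ : ℤ → ℤ) (x : (hilb (fX i)).obj (op (T0 k)))
    (hx : QX i Φ k (𝟙 (Spec (CommRingCat.of k))) x) : Fib (G := hilb (fX i)) (QX i Φ) (T0 k) x := by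
  refine (fibX_iff i Φ (𝟙 (Spec (CommRingCat.of k))) x).2 fun K _ φ => ?_
  obtain ⟨D, hD⟩ := hx
  refine ⟨D, fun d hd => ?_⟩
  rw [QG1.h_bcSat φ (KX_isQuotPt i (𝟙 (Spec (CommRingCat.of k))) x).isSat]
  exact hD d hd

/-- There is a scheme of finite type parametrizing the closed subschemes with given Hilbert polynomial. -/
theorem exists_hilb (Φ : ℤ → ℤ) (hΦ : QA1.Num (n + 1) Φ) :
    ∃ (H : Over (Spec (CommRingCat.of k))) (Z : FGA.HilbSet (fX i) H), IsProper H.hom ∧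
      ∀ x : FGA.HilbSet (fX i) (T0 k), QX i Φ k (𝟙 (Spec (CommRingCat.of k))) x → ∃ t : T0 k ⟶ H, FGA.hilbPull (fX i) t Z.1 = x.1 := by
  obtain ⟨P, r, N, c, hc⟩ := RepQMain.exists_repQ.{u} (Fin (n + 1)) Unit Φ (by rwa [Fintype.card_fin])
  obtain ⟨H, ξ, c', hξ, hc', hH⟩ := exists_nrep_X i hΦ r c
  refine ⟨H, ξ.1, ?_, fun x hx => ?_⟩
  · rw [← hH]
    infer_instance
  · have : IsLocallyNoetherian (T0 k).left := inferInstanceAs (IsLocallyNoetherian (Spec (CommRingCat.of k)))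
    obtain ⟨g, hg, -⟩ := hξ.univ (T0 k) ⟨x, fib_of_QX i Φ x hx⟩
    exact ⟨g, congrArg (fun z => (z.1 : FGA.HilbSet (fX i) (T0 k)).1) hg⟩

end K409.HilbRep
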