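import Groth.Agent.Grpsch.PicGrp
import Groth.Prelude.Def_AlgGrp
import Groth.Prelude.Def_Pic

/-!
# Translations and classes on products

For an action of `G` on `X` and a class `c` on `X ⊗ A`, the difference of `c` and its translate as a class on `X ⊗ T`
for `T`-valued points of `A` and `G`.
-/

set_option autoImplicit false
universe u

open CategoryTheory CategoryTheory.Limits MonoidalCategory CartesianMonoidalCategory MonObj GrpObj AlgebraicGeometry
open Groth.Agent.Grpsch.PicGrp

namespace K409.PicFixA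

variable {S : Scheme.{u}} {G X A : Over S} [GrpObj G] (a : AlgGrp.Action G X)

lemma XTmap_eq {T T' : Over S} (s : T' ⟶ T) : PicF.XTmap X.hom s = (X ◁ s).left := by
  apply pullback.hom_ext
  · rw [PicF.XTmap, pullback.map, pullback.lift_fst, Over.whiskerLeft_left]
    exact (Category.comp_id _).trans (pullback.lift_fst _ _ _).symm
  · rw [PicF.XTmap, pullback.map, pullback.lift_snd, Over.whiskerLeft_left]
    exact (pullback.lift_snd _ _ _).symm

/-- The translation by a `T`-valued point of `G`. -/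
noncomputable abbrev tr {T : Over S} (g : T ⟶ G) : X ⊗ T ⟶ X := lift (snd X T ≫ g) (fst X T) ≫ a.act

lemma whisker_tr {T T' : Over S} (s : T' ⟶ T) (g : T ⟶ G) : (X ◁ s) ≫ tr a g = tr a (s ≫ g) := by
  rw [← Category.assoc, comp_lift, whiskerLeft_snd_assoc, whiskerLeft_fst]

lemma tr_one {T : Over S} : tr a (toUnit T ≫ η[G]) = fst X T := by
  have h1 : lift (snd X T ≫ toUnit T ≫ η[G]) (fst X T) = lift (toUnit (X ⊗ T)) (fst X T) ≫ (η[G] ▷ X) := by
    rw [lift_whiskerRight, ← Category.assoc]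
    congr 2
    exact toUnit_unique _ _
  rw [tr, h1, Category.assoc, a.one_act, leftUnitor_hom, lift_snd]

/-- The difference of a class and its translate. -/
noncomputable def D (c : Pic (X ⊗ A).left) {T : Over S} (p : T ⟶ A) (g : T ⟶ G) : Pic (X ⊗ T).left :=
  pull (lift (tr a g) (snd X T ≫ p)).left c / pull (X ◁ p).left c

theorem D_nat (c : Pic (X ⊗ A).left) {T T' : Over S} (s : T' ⟶ T) (p : T ⟶ A) (g : T ⟶ G) :
    pull (X ◁ s).left (D a c p g) = D a c (s ≫ p) (s ≫ g) := by
  rw [D, D, map_div, ← pull_comp, ← pull_comp, ← Over.comp_left, ← Over.comp_left, comp_lift, whisker_tr,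
    whiskerLeft_snd_assoc, ← whiskerLeft_comp]

theorem D_one_right (c : Pic (X ⊗ A).left) {T : Over S} (p : T ⟶ A) : D a c p (toUnit T ≫ η[G]) = 1 := by
  have h1 : lift (tr a (toUnit T ≫ η[G])) (snd X T ≫ p) = X ◁ p := by
    rw [tr_one]
    apply CartesianMonoidalCategory.hom_ext <;> simp
  rw [D, h1, div_self']

theorem D_one_left [GrpObj A] (c : Pic (X ⊗ A).left) (h : pull (X ◁ η[A]).left c = 1) {T : Over S} (g : T ⟶ G) :
    D a c (toUnit T ≫ η[A]) g = 1 := by
  have h1 : ∀ v : X ⊗ T ⟶ X, lift v (snd X T ≫ toUnit T ≫ η[A]) = lift v (toUnit (X ⊗ T)) ≫ (X ◁ η[A]) := by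
    intro v
    rw [lift_whiskerLeft, ← Category.assoc]
    congr 2
    exact toUnit_unique _ _
  have h2 : X ◁ (toUnit T ≫ η[A]) = (X ◁ toUnit T) ≫ (X ◁ η[A]) := whiskerLeft_comp _ _ _
  rw [D, h1, h2, Over.comp_left, Over.comp_left, pull_comp, pull_comp, h, map_one, map_one, div_one]

/-- If the difference vanishes over a point then the class of the point is fixed. -/
theorem pull_eq_of_D (c : Pic (X ⊗ A).left) (p : 𝟙_ (Over S) ⟶ A) (g : 𝟙_ (Over S) ⟶ G) (l : Pic X.left)
    (hl : pull (X ◁ p).left c = pull (fst X (𝟙_ (Over S))).left l) (h : D a c p g = 1) :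
    pull (lift (toUnit X ≫ g) (𝟙 X) ≫ a.act).left l = l := by
  rw [D, div_eq_one] at h
  have h1 : lift (tr a g) (snd X (𝟙_ (Over S)) ≫ p) = lift (tr a g) (snd X (𝟙_ (Over S))) ≫ (X ◁ p) := by
    rw [lift_whiskerLeft]
  rw [h1, Over.comp_left, pull_comp, hl, ← pull_comp, ← Over.comp_left, lift_fst] at h
  have h2 := congrArg (pull (lift (𝟙 X) (toUnit X)).left) h
  rw [← pull_comp, ← pull_comp, ← Over.comp_left, ← Over.comp_left, lift_fst, ← Category.assoc, comp_lift, lift_fst,
    lift_snd_assoc] at h2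
  rw [h2]
  exact pull_id l

end K409.PicFixA
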