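import Groth.Agent.Pic13.K244.AlgDiv
import Groth.Agent.AbVar.K509.RigidBc
import Groth.Agent.AlgGrp.K409.PicFixA
import Groth.Agent.Picfga.H0
import Groth.Agent.Sga3C.GrpIrr

/-!
# Connected groups act trivially on the Picard variety of a normal projective variety
-/

set_option autoImplicit false
universe u

open CategoryTheory CategoryTheory.Limits MonoidalCategory CartesianMonoidalCategory MonObj GrpObj AlgebraicGeometry
open Groth.Agent.Ega3A.PicDiv Groth.Agent.Ega3A.PicEtSh Groth.Agent.Grpsch.PicGrp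
open Groth.Agent.Ega3A.PicLocBase Groth.Agent.Fga.RigGrp Groth.Agent.Pic13.H965.RelGrp
open Groth.Agent.Pic13.H138.AlgEquiv Groth.Agent.Pic13.H138.Slice

namespace K409.PicFix

open K244 K244.AlbZero K244.AlbFin K244.AlgDiv PicFixA

variable {k : Type u} [Field k]

/-- Open subschemes of normal schemes are normal. -/
theorem isNormalScheme_of_isOpenImmersion {X Y : Scheme.{u}} (f : X ⟶ Y) [IsOpenImmersion f]
    (hY : Pi1.IsNormalScheme Y) : Pi1.IsNormalScheme X := by
  intro x
  obtain ⟨h1, h2⟩ := hY (f x)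
  let e : Y.presheaf.stalk (f x) ≃+* X.presheaf.stalk x :=
    (asIso (f.stalkMap x)).commRingCatIsoToRingEquiv
  exact ⟨e.symm.toMulEquiv.isDomain _, IsIntegrallyClosed.of_equiv e⟩

theorem geomNormal [IsAlgClosed k] (X : Over (Spec (CommRingCat.of k))) (hXn : Pi1.IsNormalScheme X.left) :
    Pi1.IsNormalScheme (pullback X.hom
      (Spec.map (CommRingCat.ofHom (algebraMap k (AlgebraicClosure k))))) := by
  have h1 : Function.Bijective (algebraMap k (AlgebraicClosure k)) :=
    IsAlgClosed.algebraMap_bijective_of_isIntegral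
  have h2 : IsIso (CommRingCat.ofHom (algebraMap k (AlgebraicClosure k))) :=
    (ConcreteCategory.isIso_iff_bijective _).2 h1
  exact isNormalScheme_of_isOpenImmersion (pullback.fst _ _) hXn

/-- A connected group acts trivially on the classes algebraically equivalent to zero. -/
theorem main [IsAlgClosed k] (G X : Over (Spec (CommRingCat.of k))) [GrpObj G] [LocallyOfFiniteType G.hom]
    [ConnectedSpace ↥G.left] [IsIntegral X.left] [IsProper X.hom] (hXn : Pi1.IsNormalScheme X.left)
    (a : AlgGrp.Action G X) (g : 𝟙_ (Over (Spec (CommRingCat.of k))) ⟶ G) (l : Pic X.left)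
    (hl : l ∈ @alg0 k _ X.left ⟨X.hom⟩ _) :
    pull (lift (toUnit X ≫ g) (𝟙 X) ≫ a.act).left l = l := by
  let _ : X.left.Over (Spec (CommRingCat.of k)) := ⟨X.hom⟩
  obtain ⟨r, hrr⟩ := NoAff.exists_section X.hom
  let x₀ : 𝟙_ (Over (Spec (CommRingCat.of k))) ⟶ X := Over.homMk r hrr
  have hX : Function.Bijective (X.hom.appTop).hom := Groth.Agent.Picfga.H0.bijective_appTop X.hom r hrr
  obtain ⟨P, hG, φ, hφ, hmul, hone, -, -, hsep, hP⟩ := exists_pic_mul X hX x₀ (geomNormal X hXn)
  have hφ1 : cm φ (1 : Pic (PicF.XT X.hom (𝟙_ (Over (Spec (CommRingCat.of k)))))) = η[P] := by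
    rw [hone, MonObj.one_eq_one]
  have hF := hF_of_bijective X hX
  have h2 := @mem_comp k _ _ X.left ⟨X.hom⟩ P φ hφ l hl
  have h2' : (cm φ (pull (pullback.fst X.hom (𝟙_ (Over (Spec (CommRingCat.of k)))).hom) l)).left
      (IsLocalRing.closedPoint k) ∈
      connectedComponent (η[P].left (IsLocalRing.closedPoint k)) := by rw [← hφ1]; exact h2
  obtain ⟨A, hA, i, hi, hic, hsm, hp, hcs, hgi, hr⟩ := hP
  obtain ⟨p, hpi⟩ := exists_factor_pt i hr _ h2'
  obtain ⟨c, hc, hci⟩ := PicCls.exists_rg (AlbCore.sec x₀) hφ hF i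
  have hη : pull (X ◁ η[A]).left c = 1 := by
    refine (congrArg (fun z => pull z c) (XTmap_eq η[A]).symm).trans ?_
    apply eq_of_cm hφ hF x₀ hmul hone
    refine (cm_pu hφ _ _).trans ?_
    rw [hci, IsMonHom.one_hom, hφ1]
  have hpc : pull (X ◁ p).left c = pull (fst X (𝟙_ (Over (Spec (CommRingCat.of k))))).left l := by
    refine (congrArg (fun z => pull z c) (XTmap_eq p).symm).trans ?_
    apply eq_of_cm hφ hF x₀ hmul hone
    refine (cm_pu hφ _ _).trans ?_
    rw [hci, hpi]
    rfl
  have hirr : IrreducibleSpace G.left := by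
    have : GrpObj (Over.mk G.hom) := ‹GrpObj G›
    exact Groth.Agent.Sga3C.GrpIrr.irreducibleSpace_of_isAlgClosed G.hom
  let ψ : A ⊗ G ⟶ P := cm φ (D a c (fst A G) (snd A G))
  have hnat : ∀ {T : Over (Spec (CommRingCat.of k))} (s : T ⟶ A ⊗ G),
      s ≫ ψ = cm φ (D a c (s ≫ fst A G) (s ≫ snd A G)) := by
    intro T s
    refine (cm_pu hφ s (D a c (fst A G) (snd A G))).symm.trans ?_
    refine congrArg (cm φ) ?_
    refine (congrArg (fun z => pull z _) (XTmap_eq s)).trans ?_
    exact D_nat a c s (fst A G) (snd A G)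
  have key : ψ = lift (toUnit _ ≫ η[A]) (snd A G) ≫ ψ :=
    Groth.Agent.AbVar.K509.RigidBc.rigid_section A G P ψ η[A] η[G] η[P] (by
      rw [hnat]
      have h3 : (A ◁ η[G]) ≫ snd A G = toUnit _ ≫ η[G] := by
        rw [whiskerLeft_snd]
        congr 1
        exact toUnit_unique _ _
      rw [h3, D_one_right, hone]
      rfl)
  have key2 : ψ = cm φ (1 : Pic (PicF.XT X.hom (A ⊗ G))) := by
    rw [key, hnat, lift_fst, lift_snd]
    exact congrArg (cm φ) (D_one_left a c hη (snd A G))
  have key3 : D a c p g = 1 := by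
    apply eq_of_cm hφ hF x₀ hmul hone
    have h4 := hnat (lift p g)
    rw [lift_fst, lift_snd] at h4
    refine h4.symm.trans ?_
    rw [key2]
    refine (cm_pu hφ _ _).symm.trans ?_
    rw [map_one]
  exact pull_eq_of_D a c p g l hpc key3

end K409.PicFix
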