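import Groth.Prelude.Def_AGF
import Groth.Agent.Agf.H584.QBasic
import Groth.Agent.Sga3.H739.Fpqc
import Groth.Agent.Etbase.FpqcDescent
import Groth.Agent.S0021

/-!
# Towers of quotients

`H ⊆ N ⊆ G` group schemes over a field, `Q₁ = G/H ⟶ Q₂ = G/N`. If there is an affine quotient `R` of `N` by a
subgroup of `H` such that the image `E` of `H` in `R` is finite, then `G/H ⟶ G/N` is affine.
-/

set_option autoImplicit false
universe u
open CategoryTheory MonoidalCategory CartesianMonoidalCategory MonObj GrpObj AlgebraicGeometry Limits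

namespace K409.QuotAff

open Groth.Agent Groth.Agent.Agf.H584.QBasic Groth.Agent.Sga3.H739.Fpqc

/-- Squares are cartesian pointwise. -/
theorem isPullback_of_pts {C : Type*} [Category C] {A B D E : C} {a : A ⟶ B} {b : A ⟶ D} {c : B ⟶ E} {d : D ⟶ E}
    (w : a ≫ c = b ≫ d)
    (ex : ∀ {T : C} (x : T ⟶ B) (y : T ⟶ D), x ≫ c = y ≫ d → ∃ z : T ⟶ A, z ≫ a = x ∧ z ≫ b = y)
    (un : ∀ {T : C} (x y : T ⟶ A), x ≫ a = y ≫ a → x ≫ b = y ≫ b → x = y) : IsPullback a b c d := by
  refine ⟨⟨w⟩, ⟨PullbackCone.IsLimit.mk _ (fun s => (ex s.fst s.snd s.condition).choose) ?_ ?_ ?_⟩⟩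
  · intro s
    exact (ex s.fst s.snd s.condition).choose_spec.1
  · intro s
    exact (ex s.fst s.snd s.condition).choose_spec.2
  · intro s m h1 h2
    obtain ⟨h3, h4⟩ := (ex s.fst s.snd s.condition).choose_spec
    exact un _ _ (h1.trans h3.symm) (h2.trans h4.symm)

section

variable {k : Type u} [Field k] {G H N R E Q₁ Q₂ : Over (Spec (CommRingCat.of k))} [GrpObj G] [GrpObj H]
  [GrpObj N] [GrpObj R] [GrpObj E]

variable (i : H ⟶ G) (n : N ⟶ G) [IsMonHom n] [Mono n] (w : H ⟶ N) (hw : w ≫ n = i)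
  (π₁ : G ⟶ Q₁) (h₁ : IsQ i π₁) (π₂ : G ⟶ Q₂) (h₂ : IsQ n π₂) (f : Q₁ ⟶ Q₂) (hf : π₁ ≫ f = π₂)
  (ρ : N ⟶ R) [IsMonHom ρ] (hρ : Cov ρ)
  (hker : ∀ {T : Over (Spec (CommRingCat.of k))} (x y : T ⟶ N), x ≫ ρ = y ≫ ρ → ∃ h : T ⟶ H, y = x * (h ≫ w))
  (p : H ⟶ E) (hp : Cov p) (ε : E ⟶ R) [Mono ε] (hpε : p ≫ ε = w ≫ ρ)

include hw h₁ h₂ hf hρ hker hp hpε

/-- **Towers of quotients.** -/
theorem isAffineHom_of_tower [IsAffine G.left] [LocallyOfFiniteType G.hom] [IsAffine N.left]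
    [IsAffine R.left] [IsFinite E.hom] : IsAffineHom f.left := by
  -- the fibre product
  let P : Over (Spec (CommRingCat.of k)) := pullback f π₂
  let fP : P ⟶ Q₁ := pullback.fst f π₂
  let gP : P ⟶ G := pullback.snd f π₂
  have hP : IsPullback fP gP f π₂ := IsPullback.of_hasPullback f π₂
  have hmul : ∀ {T : Over (Spec (CommRingCat.of k))} (g : T ⟶ G) (x : T ⟶ N),
      lift g x ≫ (G ◁ n) ≫ μ[G] = g * (x ≫ n) := by
    intro T g x
    rw [← Category.assoc, lift_whiskerLeft, Hom.mul_def]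
  have hmul' : ∀ {T : Over (Spec (CommRingCat.of k))} (g : T ⟶ G) (x : T ⟶ N),
      lift g x ≫ ((G ◁ n) ≫ μ[G]) ≫ π₁ = (g * (x ≫ n)) ≫ π₁ := by
    intro T g x
    rw [← hmul]
    simp only [Category.assoc]
  have hNsq : IsPullback (fst G N) ((G ◁ n) ≫ μ[G]) π₂ π₂ := by
    refine isPullback_of_pts ?_ ?_ ?_
    · have h3 : (G ◁ n) ≫ μ[G] = fst G N * (snd G N ≫ n) := by
        rw [Hom.mul_def]
        congr 1
      rw [h3, h₂.mul_comp]
    · intro T x y hxy
      obtain ⟨h, rfl⟩ := (h₂.eq_iff x y).1 hxy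
      exact ⟨lift x h, lift_fst _ _, hmul x h⟩
    · intro T x y hx hy
      have e1 : ∀ z : T ⟶ G ⊗ N, z = lift (z ≫ fst G N) (z ≫ snd G N) := fun z => by ext <;> simp
      rw [e1 x, e1 y] at hy
      rw [hmul, hmul, hx, mul_right_inj, cancel_mono] at hy
      rw [e1 x, e1 y, hx, hy]
  have hw0 : (((G ◁ n) ≫ μ[G]) ≫ π₁) ≫ f = fst G N ≫ π₂ := by
    rw [Category.assoc, hf, hNsq.w]
  let q : G ⊗ N ⟶ P := hP.lift (((G ◁ n) ≫ μ[G]) ≫ π₁) (fst G N) hw0
  have hq1 : q ≫ fP = ((G ◁ n) ≫ μ[G]) ≫ π₁ := hP.lift_fst _ _ _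
  have hq2 : q ≫ gP = fst G N := hP.lift_snd _ _ _
  have hqsq : IsPullback ((G ◁ n) ≫ μ[G]) q π₁ fP := by
    refine IsPullback.of_bot ?_ hq1.symm hP
    rw [hq2, hf]
    exact hNsq.flip
  have hπ₁ : Cov π₁ := ⟨h₁.flat, h₁.surj, h₁.qc⟩
  have hqc : Cov q := hπ₁.of_isPullback hqsq
  have hqmul : ∀ {T : Over (Spec (CommRingCat.of k))} (g : T ⟶ G) (x : T ⟶ N) (h : T ⟶ H),
      lift g (x * (h ≫ w)) ≫ q = lift g x ≫ q := by
    intro T g x h
    apply hP.hom_ext
    · rw [Category.assoc, Category.assoc, hq1, hmul', hmul', MonObj.mul_comp x (h ≫ w) n,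
        Category.assoc, hw, ← _root_.mul_assoc, h₁.mul_comp]
    · rw [Category.assoc, Category.assoc, hq2, lift_fst, lift_fst]
  -- the descended morphism
  have hρG : Cov (G ◁ ρ) := hρ.whiskerLeft G
  have hdesc : ∀ {T : Over (Spec (CommRingCat.of k))} (x y : T ⟶ G ⊗ N), x ≫ (G ◁ ρ) = y ≫ (G ◁ ρ) →
      x ≫ q = y ≫ q := by
    intro T x y hxy
    have e1 : ∀ z : T ⟶ G ⊗ N, z = lift (z ≫ fst G N) (z ≫ snd G N) := fun z => by ext <;> simp
    have h3 : x ≫ fst G N = y ≫ fst G N := by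
      have := congrArg (· ≫ fst G R) hxy
      simpa using this
    have h4 : (x ≫ snd G N) ≫ ρ = (y ≫ snd G N) ≫ ρ := by
      have := congrArg (· ≫ snd G R) hxy
      simpa using this
    obtain ⟨h, hh⟩ := hker _ _ h4
    rw [e1 x, e1 y, hh, h3, hqmul]
  obtain ⟨γ, hγ⟩ := hρG.exists_desc q hdesc
  have hγ2 : γ ≫ gP = fst G R := by
    apply hρG.cancel
    rw [← Category.assoc, hγ, hq2]
    simp
  have hγc : Cov γ := hρG.of_comp (by rw [hγ]; exact hqc)
  -- the square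
  let a : (G ⊗ N) ⊗ E ⟶ G ⊗ R :=
    lift (fst (G ⊗ N) E ≫ fst G N) ((fst (G ⊗ N) E ≫ snd G N ≫ ρ) * (snd (G ⊗ N) E ≫ ε))
  have hsq : IsPullback a (fst (G ⊗ N) E) γ q := by
    refine isPullback_of_pts ?_ ?_ ?_
    · apply (hp.whiskerLeft (G ⊗ N)).cancel
      have e1 : ((G ⊗ N) ◁ p) ≫ a = lift (fst (G ⊗ N) H ≫ fst G N)
          ((fst (G ⊗ N) H ≫ snd G N) * (snd (G ⊗ N) H ≫ w)) ≫ (G ◁ ρ) := by
        ext
        · simp [a]
        · rw [Category.assoc, lift_whiskerLeft, lift_snd, lift_snd, MonObj.comp_mul, MonObj.mul_comp]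
          simp only [whiskerLeft_fst_assoc, whiskerLeft_snd_assoc, Category.assoc, hpε]
      rw [← Category.assoc, e1, Category.assoc, hγ, hqmul, whiskerLeft_fst_assoc]
      have e2 : lift (fst (G ⊗ N) H ≫ fst G N) (fst (G ⊗ N) H ≫ snd G N) = fst (G ⊗ N) H := by
        ext <;> simp
      rw [e2]
    · intro T x y hxy
      have h3 : x ≫ fst G R = y ≫ fst G N := by
        rw [← hγ2, ← hq2, ← Category.assoc, hxy, Category.assoc]
      obtain ⟨e, he⟩ : ∃ e : T ⟶ E, e ≫ ε = (y ≫ snd G N ≫ ρ)⁻¹ * (x ≫ snd G R) := by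
        obtain ⟨T', t, n₁, ht, hn₁⟩ := hρ.exists_local (x ≫ snd G R)
        have h4 : lift (t ≫ y ≫ fst G N) n₁ ≫ q = lift (t ≫ y ≫ fst G N) (t ≫ y ≫ snd G N) ≫ q := by
          have h5 : lift (t ≫ y ≫ fst G N) n₁ ≫ (G ◁ ρ) = t ≫ x := by
            ext
            · simp [h3]
            · simp [hn₁]
          have h6 : lift (t ≫ y ≫ fst G N) (t ≫ y ≫ snd G N) = t ≫ y := by ext <;> simp
          rw [← hγ, ← Category.assoc, h5, h6, Category.assoc, hxy, Category.assoc, hγ]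
        have h7 := congrArg (· ≫ fP) h4
        rw [Category.assoc, Category.assoc, hq1, hmul', hmul'] at h7
        obtain ⟨h, hh⟩ := (h₁.eq_iff _ _).1 h7.symm
        have h8 : n₁ = (t ≫ y ≫ snd G N) * (h ≫ w) := by
          rw [← cancel_mono n, MonObj.mul_comp _ _ n, Category.assoc h w n, hw]
          rw [_root_.mul_assoc, mul_right_inj] at hh
          exact hh
        refine ht.exists_lift_of_mono ε _ (h ≫ p) ?_
        have h9 : t ≫ x ≫ snd G R = (t ≫ y ≫ snd G N ≫ ρ) * ((h ≫ p) ≫ ε) := by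
          rw [← hn₁, h8, MonObj.mul_comp _ _ ρ]
          simp only [Category.assoc, hpε]
        rw [MonObj.comp_mul, h9, GrpObj.comp_inv, inv_mul_cancel_left]
      refine ⟨lift y e, ?_, lift_fst _ _⟩
      ext
      · simp [a, h3]
      · simp only [a, comp_lift, lift_snd, MonObj.comp_mul, lift_fst_assoc, lift_snd_assoc, he, Category.assoc]
        rw [mul_inv_cancel_left]
    · intro T x y hx hy
      have h3 := congrArg (· ≫ snd G R) hx
      simp only [a, Category.assoc, lift_snd, MonObj.comp_mul] at h3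
      have h4 : x ≫ fst (G ⊗ N) E ≫ snd G N ≫ ρ = y ≫ fst (G ⊗ N) E ≫ snd G N ≫ ρ := by
        rw [← Category.assoc, hy, Category.assoc]
      rw [h4, mul_right_inj, ← Category.assoc, ← Category.assoc, cancel_mono] at h3
      ext1
      · exact hy
      · exact h3
  -- finiteness of `γ`
  have hγfin : IsFinite γ.left := by
    have h1 : IsFinite (fst (G ⊗ N) E).left := by
      have h2 : (fst (G ⊗ N) E).left = pullback.fst (G ⊗ N).hom E.hom := rfl
      rw [h2]
      infer_instance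
    exact MorphismProperty.of_isPullback_of_descendsAlong (P := @IsFinite)
      (Q := @Surjective ⊓ @Flat ⊓ @QuasiCompact) (hsq.map (Over.forget _)).flip
      ⟨⟨hqc.surj, hqc.flat⟩, hqc.qc⟩ h1
  have hγs : Surjective γ.left := hγc.surj
  have hGR : IsAffine (G ⊗ R).left := inferInstanceAs (IsAffine (pullback G.hom R.hom))
  have hGN : IsAffine (G ⊗ N).left := inferInstanceAs (IsAffine (pullback G.hom N.hom))
  have hPn : IsNoetherian P.left := by
    have h3 := h₁.lft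
    have h4 : LocallyOfFiniteType (f.left ≫ Q₂.hom) := by rw [Over.w]; exact h3
    have h5 : LocallyOfFiniteType f.left := locallyOfFiniteType_of_comp f.left Q₂.hom
    have h6 : LocallyOfFiniteType gP.left :=
      MorphismProperty.of_isPullback (hP.map (Over.forget _)) h5
    have h7 : LocallyOfFiniteType P.hom := by
      rw [← Over.w gP]
      infer_instance
    have h8 : IsLocallyNoetherian P.left := LocallyOfFiniteType.isLocallyNoetherian P.hom
    have h9 : CompactSpace P.left := by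
      have h10 := hqc.surj
      have h11 : Set.range q.left = Set.univ := Set.range_eq_univ.2 q.left.surjective
      constructor
      rw [← h11]
      exact isCompact_range q.left.continuous
    exact {}
  have hPa : IsAffine P.left := S0021.result γ.left
  have hgP : IsAffineHom gP.left := inferInstance
  have hπ₂ : Cov π₂ := ⟨h₂.flat, h₂.surj, h₂.qc⟩
  exact MorphismProperty.of_isPullback_of_descendsAlong (P := @IsAffineHom)
      (Q := @Surjective ⊓ @Flat ⊓ @QuasiCompact) (hP.map (Over.forget _)).flip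
      ⟨⟨hπ₂.surj, hπ₂.flat⟩, hπ₂.qc⟩ hgP

end

end K409.QuotAff
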