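import Groth.Prelude.Def_SGA7IX
import Groth.Agent.Sga3.H784.Exist
import Groth.Agent.Sga3.H827.ImgTorus
import Groth.Agent.S3016
import Groth.Agent.S3036
import Groth.Agent.S3927
import Groth.Agent.Fga.DimLt
import Groth.Agent.Sga3B.AlgBc2
import Groth.Agent.Sga3B.TorusBc
import Groth.Agent.Sga3.H789.FieldHull1
import Groth.Agent.Etcore.SmoothRed
import Groth.Agent.S0348

/-!
# Tori and isogenies of smooth connected commutative affine groups
-/

set_option autoImplicit false
universe u
open CategoryTheory MonoidalCategory CartesianMonoidalCategory MonObj GrpObj AlgebraicGeometry Limits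

namespace K409.TorIsog

open Groth.Agent

section dims

variable {K : Type u} [Field K]

/-- Dimension of a discrete nonempty scheme. -/
lemma dim_eq_of_discrete_ker {G H : Over (Spec (CommRingCat.of K))} [GrpObj G] [GrpObj H]
    [LocallyOfFiniteType G.hom] [LocallyOfFiniteType H.hom] (u : G ⟶ H) [IsMonHom u] [QuasiCompact u.left]
    [Surjective u.left]
    (hd : DiscreteTopology ↥(Limits.pullback u.left (η[H] : 𝟙_ (Over (Spec (CommRingCat.of K))) ⟶ H).left)) :
    topologicalKrullDim G.left = topologicalKrullDim H.left := by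
  have h1 := (S3016.result K G H u).2
  have h2 : topologicalKrullDim (Set.range u.left.base) = topologicalKrullDim H.left := by
    have h3 : Set.range u.left.base = Set.univ := Set.range_eq_univ.2 u.left.surjective
    rw [h3]
    exact IsHomeomorph.topologicalKrullDim_eq _ (Homeomorph.Set.univ _).isHomeomorph
  have hne : Nonempty ↥(Limits.pullback u.left (η[H] : 𝟙_ (Over (Spec (CommRingCat.of K))) ⟶ H).left) := by
    obtain ⟨x, hx⟩ := u.left.surjective ((η[H] : 𝟙_ (Over (Spec (CommRingCat.of K))) ⟶ H).left
      (IsLocalRing.closedPoint K))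
    obtain ⟨z, -⟩ := Scheme.Pullback.exists_preimage_pullback (f := u.left)
      (g := (η[H] : 𝟙_ (Over (Spec (CommRingCat.of K))) ⟶ H).left) x (IsLocalRing.closedPoint K) hx
    exact ⟨z⟩
  have h3 := topologicalKrullDim_zero_of_discreteTopology
    ↥(Limits.pullback u.left (η[H] : 𝟙_ (Over (Spec (CommRingCat.of K))) ⟶ H).left)
  have h4 : topologicalKrullDim
    ↥(Limits.pullback u.left (η[H] : 𝟙_ (Over (Spec (CommRingCat.of K))) ⟶ H).left) = 0 :=
    le_antisymm h3 (Order.krullDim_nonneg_iff.2 ⟨⟨closure {hne.some}, isIrreducible_singleton.closure,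
      isClosed_closure⟩⟩)
  rw [h1, h2, h4, add_zero]

end dims

section algClosed

variable {K : Type u} [Field K] [IsAlgClosed K]

/-- A smooth connected affine group which surjects with discrete kernel onto a torus is a torus. -/
theorem isTorus_algClosed (G' G : Over (Spec (CommRingCat.of K))) [GrpObj G'] [GrpObj G]
    [Smooth G'.hom] [ConnectedSpace ↥G'.left] [IsAffine G'.left]
    [Smooth G.hom] [ConnectedSpace ↥G.left] [IsAffine G.left]
    (f : G' ⟶ G) [IsMonHom f] [Surjective f.left]
    (hd : DiscreteTopology ↥(Limits.pullback f.left (η[G] : 𝟙_ (Over (Spec (CommRingCat.of K))) ⟶ G).left))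
    (hG : Red.IsTorus G) : Red.IsTorus G' := by
  have hft : LocallyOfFiniteType G'.hom := inferInstance
  have hsG : IsSeparated G.hom := inferInstance
  have hsG' : IsSeparated G'.hom := inferInstance
  obtain ⟨T, _, iT, hT⟩ := Sga3.H784.Exist.exists_isMaximalTorus G'
  obtain ⟨h1, h2, h3, h4⟩ := (Sga3B.RG.BrMax.isMaximalTorus_iff_abs iT).1 hT
  have hTsm := Sga3B.TorusAlgClosed.smooth_of_isTorus h3
  have hTaf := Sga3B.TorusAlgClosed.isAffineHom_of_isTorus h3
  obtain ⟨Q, _, p, j, hp, hj, hpj, hps, hpf, -, hjm, hQ⟩ :=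
    Sga3.H827.ImgTorus.exists_image_torus (iT ≫ f) h3
  have hQsm := Sga3B.TorusAlgClosed.smooth_of_isTorus hQ
  have hQaf := Sga3B.TorusAlgClosed.isAffineHom_of_isTorus hQ
  have hQr : IsReduced Q.left := Etcore.SmoothRed.isReduced_of_smooth Q.hom
  have hjq : QuasiCompact j.left := by
    have : QuasiCompact (j.left ≫ G.hom) := by rw [Over.w]; infer_instance
    exact QuasiCompact.of_comp j.left G.hom
  have hjc : IsClosedImmersion j.left := S3036.result K Q G j
  have hmax := S3927.result K G' G f T iT ⟨h1, h2, h3, h4⟩ Q j hjc p hpj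
  have hmid : IsMonHom (𝟙 G) := inferInstance
  have hiso : IsIso j := hmax.2.2.2 G (𝟙 G) j hG (Category.comp_id _)
  -- `T → G` is surjective
  have hjs : IsIso j.left := inferInstanceAs (IsIso ((Over.forget _).map j))
  have hTs : Surjective (iT ≫ f).left := by
    rw [← hpj, Over.comp_left]
    infer_instance
  have hiq : QuasiCompact iT.left := by
    have : QuasiCompact (iT.left ≫ G'.hom) := by rw [Over.w]; infer_instance
    exact QuasiCompact.of_comp iT.left G'.hom
  have hic : IsClosedImmersion iT.left := S3036.result K T G' iT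
  have hfq : QuasiCompact f.left := by
    have : QuasiCompact (f.left ≫ G.hom) := by rw [Over.w]; infer_instance
    exact QuasiCompact.of_comp f.left G.hom
  have hd' : DiscreteTopology
      ↥(Limits.pullback (iT ≫ f).left (η[G] : 𝟙_ (Over (Spec (CommRingCat.of K))) ⟶ G).left) := by
    let m : Limits.pullback (iT ≫ f).left (η[G] : 𝟙_ (Over (Spec (CommRingCat.of K))) ⟶ G).left ⟶
      Limits.pullback f.left (η[G] : 𝟙_ (Over (Spec (CommRingCat.of K))) ⟶ G).left :=
      pullback.lift (pullback.fst _ _ ≫ iT.left) (pullback.snd _ _) (by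
        rw [Category.assoc, ← Over.comp_left, pullback.condition])
    have hm : IsPullback (pullback.fst (iT ≫ f).left (η[G] : 𝟙_ (Over (Spec (CommRingCat.of K))) ⟶ G).left)
        m iT.left (pullback.fst f.left (η[G] : 𝟙_ (Over (Spec (CommRingCat.of K))) ⟶ G).left) := by
      refine IsPullback.of_bot ?_ (pullback.lift_fst _ _ _).symm
        (IsPullback.of_hasPullback f.left (η[G] : 𝟙_ (Over (Spec (CommRingCat.of K))) ⟶ G).left)
      have e1 : m ≫ pullback.snd f.left (η[G] : 𝟙_ (Over (Spec (CommRingCat.of K))) ⟶ G).left =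
          pullback.snd (iT ≫ f).left (η[G] : 𝟙_ (Over (Spec (CommRingCat.of K))) ⟶ G).left :=
        pullback.lift_snd _ _ _
      rw [e1]
      exact IsPullback.of_hasPullback (iT ≫ f).left (η[G] : 𝟙_ (Over (Spec (CommRingCat.of K))) ⟶ G).left
    have hmc : IsClosedImmersion m := MorphismProperty.of_isPullback hm hic
    exact m.isClosedEmbedding.isEmbedding.discreteTopology
  have hqc2 : QuasiCompact (iT ≫ f).left := by rw [Over.comp_left]; infer_instance
  have e1 := dim_eq_of_discrete_ker (iT ≫ f) hd'
  have e2 := dim_eq_of_discrete_ker f hd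
  obtain ⟨d, hd1, -⟩ := Fdesc.GrpDimHom.rtd_eq G'
  have hirr : IrreducibleSpace ↥G'.left := S0348.result K G'
  have hsurj : Set.range iT.left.base = Set.univ := by
    by_contra hne
    have h5 : topologicalKrullDim (Set.range iT.left.base) = topologicalKrullDim T.left :=
      (IsHomeomorph.topologicalKrullDim_eq _
        hic.isClosedEmbedding.isEmbedding.toHomeomorph.isHomeomorph).symm
    have h6 := Fga.DimLt.exists_ltSeries_succ (n := d) hic.isClosedEmbedding.isClosed_range hne
      (by rw [h5, e1, ← e2, hd1])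
    rw [hd1] at h6
    have h7 : d + 1 ≤ d := by exact_mod_cast h6
    omega
  have hsur : Surjective iT.left := ⟨Set.range_eq_univ.1 hsurj⟩
  have hG'r : IsReduced G'.left := Etcore.SmoothRed.isReduced_of_smooth G'.hom
  have hi1 : IsIso iT.left := isIso_of_isClosedImmersion_of_surjective iT.left
  have hi2 : IsIso iT := by
    have : IsIso ((Over.forget _).map iT) := hi1
    exact isIso_of_reflects_iso _ (Over.forget _)
  let e : Grp.mk T ≅ Grp.mk G' := Grp.mkIso (asIso iT)
  exact Sga3B.TorusBc.isTorus_of_iso e h3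

end algClosed

end K409.TorIsog
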