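import Groth.Prelude.Def_Mor2
import Mathlib.AlgebraicGeometry.Morphisms.FlatRank
import Mathlib.RingTheory.LocalRing.Module
import Mathlib.RingTheory.Artinian.Module

/-!
# Degrees of finite locally free morphisms over a field
-/

set_option autoImplicit false
universe u
open CategoryTheory AlgebraicGeometry Limits TensorProduct

namespace K409.TorsDeg

theorem finrank_of_rank {k A C : Type u} [Field k] [CommRing A] [CommRing C] [Algebra k A] [Algebra A C]
    [Algebra k C] [IsScalarTower k A C] [Module.Finite k A] [Module.Finite A C] [Module.Flat A C] (m : ℕ)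
    (h : ∀ p, Module.rankAtStalk (R := A) C p = m) : Module.finrank k C = m * Module.finrank k A := by
  have hA : IsArtinianRing A := IsArtinianRing.of_finite k A
  rcases subsingleton_or_nontrivial A with hs | hn
  · have hC : Subsingleton C := Module.subsingleton A C
    rw [Module.finrank_zero_of_subsingleton, Module.finrank_zero_of_subsingleton, mul_zero]
  have hrk : ∀ P : MaximalSpectrum A, Module.finrank (A ⧸ P.1) ((A ⧸ P.1) ⊗[A] C) = m := by
    intro P
    let := Ideal.Quotient.field P.1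
    have h1 := Module.rankAtStalk_baseChange (R := A) (M := C) (S := A ⧸ P.1) ⊥
    rw [h, Module.rankAtStalk_eq_finrank_of_free] at h1
    exact h1
  obtain ⟨b⟩ := Module.nonempty_basis_of_flat_of_finrank_eq A C m hrk
  have h1 : Module.Free A C := Module.Free.of_basis b
  rw [← Module.finrank_mul_finrank k A C, Module.finrank_eq_card_basis b, Fintype.card_fin, mul_comm]

/-- Degrees are multiplicative over a field, affine case. -/
theorem finrank_comp_spec {k : Type u} [Field k] {A C : CommRingCat.{u}} (ψ : CommRingCat.of k ⟶ A) (φ : A ⟶ C)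
    [IsFinite (Spec.map ψ)] [IsFinite (Spec.map φ)] [Flat (Spec.map φ)] {m : ℕ}
    (hm : ∀ y, (Spec.map φ).finrank y = m) (x : Spec (CommRingCat.of k)) :
    (Spec.map φ ≫ Spec.map ψ).finrank x = m * (Spec.map ψ).finrank x := by
  have h1 : ψ.hom.Finite := (IsFinite.SpecMap_iff _).1 inferInstance
  have h2 : φ.hom.Finite := (IsFinite.SpecMap_iff _).1 inferInstance
  have h3 : φ.hom.Flat := Flat.SpecMap_iff.1 inferInstance
  algebraize [ψ.hom, φ.hom, φ.hom.comp ψ.hom]
  have h4 : Module.Finite k C := Module.Finite.trans A C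
  have h5 : ∀ p, Module.rankAtStalk (R := A) C p = m := by
    intro p
    rw [← hm p]
    exact (Scheme.Hom.finrank_SpecMap_algebraMap A C p).symm
  have h6 := finrank_of_rank (k := k) (A := A) (C := C) m h5
  have h7 := Scheme.Hom.finrank_SpecMap_algebraMap k C x
  have h8 := Scheme.Hom.finrank_SpecMap_algebraMap k A x
  rw [Module.rankAtStalk_eq_finrank_of_free] at h7 h8
  rw [← Spec.map_comp]
  refine Eq.trans ?_ ((h7.trans h6).trans (congrArg (m * ·) h8.symm))
  rfl

/-- **Degrees are multiplicative over a field.** -/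
theorem deg_comp {k : Type u} [Field k] {X Y : Scheme.{u}} (f : X ⟶ Y) (g : Y ⟶ Spec (CommRingCat.of k)) {m n : ℕ}
    (hf : Mor2.IsFinLocFreeOfDeg m f) (hg : Mor2.IsFinLocFreeOfDeg n g) :
    Mor2.IsFinLocFreeOfDeg (m * n) (f ≫ g) := by
  obtain ⟨⟨hf1, hf2, hf3⟩, hf4⟩ := hf
  obtain ⟨⟨hg1, hg2, hg3⟩, hg4⟩ := hg
  refine ⟨⟨inferInstance, inferInstance, inferInstance⟩, fun x => ?_⟩
  have hY : IsAffine Y := isAffine_of_isAffineHom g
  have hX : IsAffine X := isAffine_of_isAffineHom f
  obtain ⟨ψ, hψ⟩ := Spec.map_surjective (Y.isoSpec.inv ≫ g)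
  obtain ⟨φ, hφ⟩ := Spec.map_surjective (X.isoSpec.inv ≫ f ≫ Y.isoSpec.hom)
  have e1 : f ≫ g = X.isoSpec.hom ≫ Spec.map φ ≫ Spec.map ψ := by
    rw [hφ, hψ]
    simp
  have e2 : g = Y.isoSpec.hom ≫ Spec.map ψ := by rw [hψ]; simp
  have i1 : IsFinite (Spec.map ψ) := by rw [hψ]; infer_instance
  have i2 : IsFinite (Spec.map φ) := by rw [hφ]; infer_instance
  have i3 : Flat (Spec.map φ) := by rw [hφ]; infer_instance
  have i4 : Flat (Spec.map ψ) := by rw [hψ]; infer_instance
  have hm : ∀ y, (Spec.map φ).finrank y = m := by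
    intro y
    have h1 : IsPullback X.isoSpec.inv (Spec.map φ) f Y.isoSpec.inv :=
      IsPullback.of_horiz_isIso ⟨by rw [hφ]; simp⟩
    rw [Scheme.Hom.finrank_of_isPullback _ _ _ _ h1, hf4]
  rw [e1, Scheme.Hom.finrank_comp_left_of_isIso, finrank_comp_spec ψ φ hm]
  congr 1
  rw [← hg4 x]
  conv_rhs => rw [e2, Scheme.Hom.finrank_comp_left_of_isIso]

end K409.TorsDeg
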