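import Groth.Prelude.Def_AlgGrp
import Groth.Prelude.Def_Mor2
import Groth.Agent.AlgGrp.K409.TorsDeg
import Groth.Agent.Sga3.H739.Fpqc
import Groth.Agent.Sga3.H739.KerPts
import Groth.Agent.Sga3B.KerGrp
import Groth.Agent.Picfga.FiniteDescent
import Groth.Agent.Picfga.HilbPull

/-!
# The torsion of an extension
-/

set_option autoImplicit false
universe u
open CategoryTheory MonoidalCategory CartesianMonoidalCategory MonObj GrpObj AlgebraicGeometry Limits

namespace K409.TorsSeq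

open Groth.Agent Groth.Agent.Sga3.H739.Fpqc Groth.Agent.Sga3B.KerGrp

/-- Squares are cartesian pointwise. -/
theorem isPullback_of_pts {C : Type*} [Category C] {A B D E : C} {a : A ⟶ B} {b : A ⟶ D} {c : B ⟶ E} {d : D ⟶ E}
    (w : a ≫ c = b ≫ d)
    (ex : ∀ {T : C} (x : T ⟶ B) (y : T ⟶ D), x ≫ c = y ≫ d → ∃ z : T ⟶ A, z ≫ a = x ∧ z ≫ b = y)
    (un : ∀ {T : C} (x y : T ⟶ A), x ≫ a = y ≫ a → x ≫ b = y ≫ b → x = y) : IsPullback a b c d := by
  refine ⟨⟨w⟩, ⟨PullbackCone.IsLimit.mk _ (fun s => (ex s.fst s.snd s.condition).choose) ?_ ?_ ?_⟩⟩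
  · intro s
    exact (ex s.fst s.snd s.condition).choose_spec.1
  · intro s
    exact (ex s.fst s.snd s.condition).choose_spec.2
  · intro s m h1 h2
    obtain ⟨h3, h4⟩ := (ex s.fst s.snd s.condition).choose_spec
    exact un _ _ (h1.trans h3.symm) (h2.trans h4.symm)

section

variable {k : Type u} [Field k] {G T B K : Over (Spec (CommRingCat.of k))} [GrpObj G] [IsCommMonObj G]
  [GrpObj T] [GrpObj B]

lemma comp_pow_one {X Y : Over (Spec (CommRingCat.of k))} [GrpObj Y] (x : X ⟶ Y) (N : ℕ) : x ≫ (𝟙 Y) ^ N = x ^ N := by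
  rw [MonObj.comp_pow, Category.comp_id]

/-- A point of the kernel of the `N`-th power. -/
lemma exists_lift_pow {X Y K : Over (Spec (CommRingCat.of k))} [GrpObj Y] {κ : K ⟶ Y} {N : ℕ}
    (hK : AlgGrp.IsKernel κ ((𝟙 Y) ^ N)) (x : X ⟶ Y) (hx : x ^ N = 1) : ∃ z : X ⟶ K, z ≫ κ = x :=
  Sga3.H739.KerPts.exists_lift hK x (by rw [comp_pow_one, hx])

lemma pow_comp_ker {X Y K : Over (Spec (CommRingCat.of k))} [GrpObj Y] {κ : K ⟶ Y} {N : ℕ}
    (hK : AlgGrp.IsKernel κ ((𝟙 Y) ^ N)) (z : X ⟶ K) : (z ≫ κ) ^ N = 1 := by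
  rw [← comp_pow_one]
  exact Sga3.H739.KerPts.comp_eq_one hK z

variable (i : T ⟶ G) [IsMonHom i] (q : G ⟶ B) [IsMonHom q] (hk : AlgGrp.IsKernel i q) (hq : Cov q)
  (κ : K ⟶ G) (N : ℕ) (hK : AlgGrp.IsKernel κ ((𝟙 G) ^ N)) (hT : Cov ((𝟙 T) ^ N : T ⟶ T))
  (hTk : Cov (toUnit T))

include hk hq hK hT hTk

/-- **Degrees of torsion subgroups in an extension.** -/
theorem deg_torsion {m n : ℕ} (hm : Mor2.IsFinLocFreeOfDeg m (kerObj ((𝟙 T) ^ N)).hom)
    (hn : Mor2.IsFinLocFreeOfDeg n (kerObj ((𝟙 B) ^ N)).hom) : Mor2.IsFinLocFreeOfDeg (m * n) K.hom := by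
  have him : Mono i := Sga3.H739.KerPts.mono_of_isPullback hk
  have hκm : Mono κ := Sga3.H739.KerPts.mono_of_isPullback hK
  have hT' := isPullback_ker ((𝟙 T) ^ N : T ⟶ T)
  have hB' := isPullback_ker ((𝟙 B) ^ N : B ⟶ B)
  set T' := kerObj ((𝟙 T) ^ N : T ⟶ T) with hT'def
  set B' := kerObj ((𝟙 B) ^ N : B ⟶ B) with hB'def
  set τ := kerι ((𝟙 T) ^ N : T ⟶ T) with hτ
  set β := kerι ((𝟙 B) ^ N : B ⟶ B) with hβ
  have hτm : Mono τ := inferInstance
  have hβm : Mono β := inferInstance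
  have hcomm : ∀ {S : Over (Spec (CommRingCat.of k))} (x y : S ⟶ G), x * y = y * x := fun x y => mul_comm x y
  -- `K ⟶ B'`
  obtain ⟨qK, hqK⟩ : ∃ qK : K ⟶ B', qK ≫ β = κ ≫ q :=
    exists_lift_pow hB' _ (by
      rw [← MonObj.pow_comp, show κ ^ N = 1 by rw [← comp_pow_one]; exact hK.w.trans (by rfl), MonObj.one_comp])
  -- the fibre product
  let P : Over (Spec (CommRingCat.of k)) := pullback q β
  let pG : P ⟶ G := pullback.fst q β
  let pB : P ⟶ B' := pullback.snd q β
  have hP : IsPullback pG pB q β := IsPullback.of_hasPullback q β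
  have hpB : Cov pB := hq.of_isPullback hP
  obtain ⟨ψ, hψ⟩ : ∃ ψ : P ⟶ T, ψ ≫ i = pG ^ N := by
    refine Sga3.H739.KerPts.exists_lift hk _ ?_
    rw [MonObj.pow_comp, hP.w]
    exact pow_comp_ker hB' pB
  -- `K ⊗ T ⟶ P`
  let w : K ⊗ T ⟶ G := (fst K T ≫ κ) * (snd K T ≫ i)
  have hw : w ≫ q = (fst K T ≫ qK) ≫ β := by
    simp only [w]
    rw [MonObj.mul_comp _ _ q, Category.assoc (snd K T) i q, hk.w, Category.assoc, Category.assoc, hqK]
    have : snd K T ≫ toUnit T ≫ η[B] = 1 := by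
      rw [← Category.assoc, toUnit_unique (snd K T ≫ toUnit T) (toUnit _)]
      rfl
    rw [this, _root_.mul_one]
  let v : K ⊗ T ⟶ P := hP.lift w (fst K T ≫ qK) hw
  have hv1 : v ≫ pG = w := hP.lift_fst _ _ _
  have hv2 : v ≫ pB = fst K T ≫ qK := hP.lift_snd _ _ _
  have hpGm : Mono pG := by
    refine ⟨fun a b hab => hP.hom_ext hab ?_⟩
    rw [← cancel_mono β, Category.assoc, Category.assoc, ← hP.w, ← Category.assoc, hab, Category.assoc]
  have hκN : ∀ {S : Over (Spec (CommRingCat.of k))} (x : S ⟶ K), (x ≫ κ) ^ N = 1 := fun x => pow_comp_ker hK x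
  have hcompw : ∀ {S : Over (Spec (CommRingCat.of k))} (z : S ⟶ K ⊗ T),
      z ≫ w = (z ≫ fst K T ≫ κ) * (z ≫ snd K T ≫ i) := by
    intro S z
    simp only [w]
    rw [MonObj.comp_mul]
  have hsq : IsPullback v (snd K T) ψ ((𝟙 T) ^ N) := by
    refine isPullback_of_pts ?_ ?_ ?_
    · rw [← cancel_mono i, Category.assoc, Category.assoc, hψ, MonObj.comp_pow, hv1, ← Category.assoc, comp_pow_one,
        MonObj.pow_comp]
      simp only [w]
      rw [mul_pow, hκN, _root_.one_mul]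
    · intro S p t hpt
      have h1 : ((p ≫ pG) * (t ≫ i)⁻¹) ^ N = 1 := by
        rw [mul_pow, inv_pow, ← MonObj.pow_comp t N i, ← comp_pow_one t, ← hpt, Category.assoc, hψ, MonObj.comp_pow,
          mul_inv_cancel]
      obtain ⟨z, hz⟩ := exists_lift_pow hK _ h1
      refine ⟨lift z t, ?_, lift_snd _ _⟩
      rw [← cancel_mono pG, Category.assoc, hv1, hcompw, lift_fst_assoc, lift_snd_assoc, hz, inv_mul_cancel_right]
    · intro S x y hx hy
      have h1 := congrArg (· ≫ pG) hx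
      simp only [Category.assoc, hv1] at h1
      rw [hcompw, hcompw, ← Category.assoc x (snd K T), ← Category.assoc y (snd K T), hy, mul_left_inj,
        ← Category.assoc, ← Category.assoc, cancel_mono] at h1
      ext1
      · exact h1
      · exact hy
  have hv : Cov v := hT.of_isPullback hsq.flip
  have hqKc : Cov qK := by
    have h1 : Cov (fst K T ≫ qK) := by
      rw [← hv2]
      exact hv.comp hpB
    have h2 : Cov (fst K T) := by
      refine hTk.of_isPullback (f := snd K T) (g := toUnit K) (isPullback_of_pts (toUnit_unique _ _) ?_ ?_)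
      · intro S x y _
        exact ⟨lift y x, lift_snd _ _, lift_fst _ _⟩
      · intro S x y h1 h2
        ext1
        · exact h2
        · exact h1
    exact h2.of_comp h1
  -- the torsor
  have hτN : ∀ {S : Over (Spec (CommRingCat.of k))} (x : S ⟶ T'), (x ≫ τ) ^ N = 1 := fun x => pow_comp_ker hT' x
  obtain ⟨m', hm'⟩ : ∃ m' : K ⊗ T' ⟶ K, m' ≫ κ = (fst K T' ≫ κ) * ((snd K T' ≫ τ) ≫ i) := by
    refine exists_lift_pow hK _ ?_
    rw [mul_pow, hκN, ← MonObj.pow_comp, hτN, MonObj.one_comp, _root_.one_mul]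
  have hiq : ∀ {S : Over (Spec (CommRingCat.of k))} (x : S ⟶ T), (x ≫ i) ≫ q = 1 :=
    fun x => Sga3.H739.KerPts.comp_eq_one hk x
  have hsq2 : IsPullback (fst K T') m' qK qK := by
    refine isPullback_of_pts ?_ ?_ ?_
    · rw [← cancel_mono β, Category.assoc, Category.assoc, hqK, ← Category.assoc m', hm', MonObj.mul_comp _ _ q, hiq,
        _root_.mul_one, Category.assoc]
    · intro S x y hxy
      have h1 : (x ≫ κ) ≫ q = (y ≫ κ) ≫ q := by
        rw [Category.assoc, Category.assoc, ← hqK, ← Category.assoc, hxy, Category.assoc]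
      obtain ⟨t, ht⟩ := Sga3.H739.KerPts.exists_lift hk ((x ≫ κ)⁻¹ * (y ≫ κ)) (by
        rw [MonObj.mul_comp _ _ q, GrpObj.inv_comp, h1, inv_mul_cancel])
      obtain ⟨t', ht'⟩ := exists_lift_pow hT' t (by
        rw [← cancel_mono i, MonObj.pow_comp, ht, mul_pow, inv_pow, hκN, hκN, MonObj.one_comp]
        simp)
      refine ⟨lift x t', lift_fst _ _, ?_⟩
      rw [← cancel_mono κ, Category.assoc, hm', MonObj.comp_mul, lift_fst_assoc, Category.assoc, lift_snd_assoc,
        ← Category.assoc t', ht', ht, mul_inv_cancel_left]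
    · intro S x y hx hy
      have h1 := congrArg (· ≫ κ) hy
      simp only [Category.assoc, hm', MonObj.comp_mul] at h1
      rw [← Category.assoc x (fst K T'), hx, Category.assoc y, mul_right_inj] at h1
      have h2 : (x ≫ snd K T') ≫ τ ≫ i = (y ≫ snd K T') ≫ τ ≫ i := by simpa using h1
      rw [cancel_mono] at h2
      ext1
      · exact hx
      · exact h2
  have hdeg1 : Mor2.IsFinLocFreeOfDeg m (fst K T').left :=
    Picfga.HilbPull.isFinLocFreeOfDeg_of_isPullback (IsPullback.of_hasPullback K.hom T'.hom).flip hm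
  have hdeg2 : Mor2.IsFinLocFreeOfDeg m qK.left := by
    have i1 := hqKc.surj
    have i2 := hqKc.flat
    have i3 := hqKc.qc
    have hsq3 : IsPullback (fst K T').left m'.left qK.left qK.left := hsq2.map (Over.forget _)
    exact Picfga.FiniteDescent.isFinLocFreeOfDeg_of_isPullback hsq3 hdeg1
  rw [← Over.w qK]
  exact TorsDeg.deg_comp _ _ hdeg2 hn

end

end K409.TorsSeq
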