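import Groth.Agent.AlgGrp.K409.TorsSeq
import Groth.Agent.Sga3B.DSPts
import Groth.Agent.Sga3.H827.DSFlat
import Groth.Agent.Sga3B.TorusAlgClosed
import Groth.Agent.Sga3B.TorusBc
import Groth.Agent.Sga3B.BcPts
import Groth.Agent.Sga3B.DimFib
import Groth.Agent.Sga3.H816.TorusDim
import Groth.Agent.Sga3C.ActBase
import Groth.Agent.Sga3C.FlatImage2

/-!
# The torsion of a torus
-/

set_option autoImplicit false
universe u
open CategoryTheory MonoidalCategory CartesianMonoidalCategory MonObj GrpObj AlgebraicGeometry Limits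

namespace K409.TorsTorus

open Groth.Agent Groth.Agent.Sga3.H739.Fpqc Groth.Agent.Sga3B.KerGrp Groth.Agent.Sga3B.DSPts

section Bc

variable {S : Scheme.{u}}

theorem isKernel_bc {S' : Scheme.{u}} (t : S' ⟶ S) {N G H : Over S} [GrpObj G] [GrpObj H] {i : N ⟶ G} {u : G ⟶ H}
    (h : AlgGrp.IsKernel i u) :
    AlgGrp.IsKernel (Q := Red.bc t H) ((Over.pullback t).map i) ((Over.pullback t).map u) := by
  have hi : Mono i := Sga3.H739.KerPts.mono_of_isPullback h
  have hpt : ∀ {T : Over S'} (x : T ⟶ Red.bc t N), x ≫ (Over.pullback t).map i =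
      Sga3B.BcPts.bcEquiv t T G ((Sga3B.BcPts.bcEquiv t T N).symm x ≫ i) := by
    intro T x
    rw [Sga3B.BcPts.bcEquiv_comp, Equiv.apply_symm_apply]
  refine TorsSeq.isPullback_of_pts ?_ ?_ ?_
  · rw [← Functor.map_comp, show i ≫ u = 1 from h.w, Functor.map_one]
    rfl
  · intro T g y hg
    have h3 : (Sga3B.BcPts.bcEquiv t T G).symm g ≫ u = 1 := by
      rw [← Sga3B.BcPts.bcEquiv_symm_comp, show g ≫ (Over.pullback t).map u = y ≫ η[Red.bc t H] from hg,
        toUnit_unique y (toUnit T)]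
      exact (Sga3B.BcPts.bcEquiv t T H).symm_apply_eq.mpr (Sga3B.BcPts.bcEquiv_one t).symm
    obtain ⟨z, hz⟩ := Sga3.H739.KerPts.exists_lift h _ h3
    refine ⟨Sga3B.BcPts.bcEquiv t T N z, ?_, toUnit_unique _ _⟩
    rw [hpt, Equiv.symm_apply_apply, hz, Equiv.apply_symm_apply]
  · intro T x y h1 _
    rw [hpt, hpt] at h1
    have h2 := (Sga3B.BcPts.bcEquiv t T G).injective h1
    rw [cancel_mono] at h2
    exact (Sga3B.BcPts.bcEquiv t T N).symm.injective h2

/-- Powers of the identity commute with base change. -/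
theorem map_pow_one {S' : Scheme.{u}} (f : S' ⟶ S) (A : Over S) [GrpObj A] (n : ℕ) :
    (Over.pullback f).map ((𝟙 A : A ⟶ A) ^ n) = (𝟙 (Red.bc f A) : Red.bc f A ⟶ Red.bc f A) ^ n := by
  rw [← CategoryTheory.Functor.map_id]
  exact map_pow (Functor.homMonoidHom (Over.pullback f) (X := A) (M := A)) (𝟙 A) n

end Bc

section DS

variable {S : Scheme.{u}}

/-- reduction mod `N` -/
def redN (r N : ℕ) : (Fin r → ℤ) →+ (Fin r → ZMod N) where
  toFun x i := (x i : ZMod N)
  map_zero' := by ext; simp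
  map_add' x y := by ext; simp

lemma redN_surjective (r N : ℕ) : Function.Surjective (redN r N) := by
  intro y
  choose x hx using fun i => ZMod.intCast_surjective (y i)
  exact ⟨x, funext hx⟩

lemma redN_ker (r N : ℕ) (x : Fin r → ℤ) (hx : redN r N x = 0) : ∃ y : Fin r → ℤ, x = N • y := by
  have h1 : ∀ i, (N : ℤ) ∣ x i := fun i => (ZMod.intCast_zmod_eq_zero_iff_dvd _ _).1 (congrFun hx i)
  choose y hy using h1
  exact ⟨y, funext fun i => by simp [hy i]⟩

/-- A character killing `N M` factors. -/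
lemma exists_char (r N : ℕ) {E : Type u} [CommRing E] (χ : Multiplicative (Fin r → ℤ) →* E) (h : χ ^ N = 1) :
    ∃ χ' : Multiplicative (Fin r → ZMod N) →* E, χ = χ'.comp (AddMonoidHom.toMultiplicative (redN r N)) := by
  let ψ : Multiplicative (Fin r → ℤ) →* Eˣ := MonoidHom.toHomUnits χ
  have hψ : ∀ x, ((ψ x : Eˣ) : E) = χ x := fun x => rfl
  have hs : Function.Surjective (AddMonoidHom.toMultiplicative (redN r N)) := redN_surjective r N
  have hker : (AddMonoidHom.toMultiplicative (redN r N)).ker ≤ ψ.ker := by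
    intro x hx
    obtain ⟨y, hy⟩ := redN_ker r N x.toAdd (Multiplicative.ofAdd.injective hx)
    have h1 : x = (Multiplicative.ofAdd y) ^ N := by
      rw [← ofAdd_nsmul, ← hy]
      rfl
    have h2 : ψ x = 1 := by
      apply Units.ext
      rw [hψ, h1, map_pow]
      exact congrArg (fun f : Multiplicative (Fin r → ℤ) →* E => f (Multiplicative.ofAdd y)) h
    exact h2
  let ψ' := MonoidHom.liftOfSurjective (AddMonoidHom.toMultiplicative (redN r N)) hs ⟨ψ, hker⟩
  refine ⟨(Units.coeHom E).comp ψ', MonoidHom.ext fun x => ?_⟩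
  have h3 := MonoidHom.liftOfRightInverse_comp_apply (AddMonoidHom.toMultiplicative (redN r N)) _
    (Function.rightInverse_surjInv hs) ⟨ψ, hker⟩ x
  exact (congrArg Units.val h3).symm

lemma dsChar_pow {T : Over S} {M : Type} [AddCommGroup M] (x : T ⟶ Red.DS S M) (N : ℕ) :
    dsChar (x ^ N) = dsChar x ^ N := by
  simp [dsChar]

lemma pow_DS {M : Type} [AddCommGroup M] (N : ℕ) :
    (𝟙 (Red.DS S M)) ^ N = Red.DSmap S (nsmulAddMonoidHom N : M →+ M) := by
  apply (dsEquiv _ M).symm.injective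
  change dsChar _ = dsChar _
  rw [dsChar_pow]
  have h := dsChar_DSmap (nsmulAddMonoidHom N : M →+ M) (𝟙 (Red.DS S M))
  rw [Category.id_comp] at h
  rw [h]
  refine MonoidHom.ext fun x => ?_
  simp only [MonoidHom.pow_apply, MonoidHom.comp_apply]
  rw [← map_pow]
  rfl

lemma dsChar_one {T : Over S} {M : Type} [AddCommGroup M] : dsChar (1 : T ⟶ Red.DS S M) = 1 := by
  simp [dsChar]

lemma comp_eq_dsEquiv {T : Over S} {M : Type} [AddCommGroup M] {x y : T ⟶ Red.DS S M} (h : dsChar x = dsChar y) :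
    x = y := by
  rw [← dsEquiv_dsChar x, h, dsEquiv_dsChar]

/-- The kernel of the `N`-th power on a split torus. -/
theorem isKernel_DS (r N : ℕ) :
    AlgGrp.IsKernel (Red.DSmap S (redN r N)) ((𝟙 (Red.DS S (Fin r → ℤ))) ^ N) := by
  have hinj : ∀ {T : Over S} (x y : T ⟶ Red.DS S (Fin r → ZMod N)), x ≫ Red.DSmap S (redN r N) =
      y ≫ Red.DSmap S (redN r N) → x = y := by
    intro T x y hxy
    apply comp_eq_dsEquiv
    have h1 := congrArg dsChar hxy
    rw [dsChar_DSmap, dsChar_DSmap] at h1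
    refine MonoidHom.ext fun z => ?_
    obtain ⟨w, hw⟩ := redN_surjective r N z.toAdd
    have := congrArg (fun f : Multiplicative (Fin r → ℤ) →* _ => f (Multiplicative.ofAdd w)) h1
    have hz : z = AddMonoidHom.toMultiplicative (redN r N) (Multiplicative.ofAdd w) := by
      apply Multiplicative.toAdd.injective
      exact hw.symm
    rw [hz]
    exact this
  have hex : ∀ {T : Over S} (x : T ⟶ Red.DS S (Fin r → ℤ)), x ^ N = 1 →
      ∃ z : T ⟶ Red.DS S (Fin r → ZMod N), z ≫ Red.DSmap S (redN r N) = x := by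
    intro T x hx
    have h1 : dsChar x ^ N = 1 := by rw [← dsChar_pow, hx, dsChar_one]
    obtain ⟨χ', hχ'⟩ := exists_char r N (dsChar x) h1
    refine ⟨dsEquiv T _ χ', ?_⟩
    apply comp_eq_dsEquiv
    rw [dsChar_DSmap, dsChar_dsEquiv, hχ']
  refine TorsSeq.isPullback_of_pts ?_ ?_ ?_
  · apply comp_eq_dsEquiv
    rw [MonObj.comp_pow, Category.comp_id, dsChar_pow]
    change _ = dsChar (1 : Red.DS S (Fin r → ZMod N) ⟶ Red.DS S (Fin r → ℤ))
    rw [dsChar_one]
    have h2 := dsChar_DSmap (redN r N) (𝟙 (Red.DS S (Fin r → ZMod N)))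
    rw [Category.id_comp] at h2
    rw [h2]
    refine MonoidHom.ext fun z => ?_
    simp only [MonoidHom.pow_apply, MonoidHom.comp_apply, MonoidHom.one_apply]
    rw [← map_pow, ← map_pow]
    have h3 : (AddMonoidHom.toMultiplicative (redN r N)) (z ^ N) = 1 := by
      apply Multiplicative.toAdd.injective
      change redN r N (N • z.toAdd) = 0
      rw [map_nsmul]
      ext i
      simp
    rw [h3, map_one]
  · intro T x y hxy
    obtain ⟨z, hz⟩ := hex x (by
      rw [← Category.comp_id x, ← MonObj.comp_pow, hxy, toUnit_unique y (toUnit T)]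
      rfl)
    exact ⟨z, hz, toUnit_unique _ _⟩
  · intro T x y h1 h2
    exact hinj x y h1

/-- The degree of a finite diagonalizable group. -/
theorem deg_DS (Q : Type) [AddCommGroup Q] [Finite Q] :
    Mor2.IsFinLocFreeOfDeg (Nat.card Q) (Red.DS S Q).hom := by
  refine Picfga.HilbPull.isFinLocFreeOfDeg_of_isPullback
    (IsPullback.of_hasPullback (Red.diag (ULift.{u} ℤ) Q).hom (Limits.IsTerminal.from specULiftZIsTerminal S)) ?_
  change Mor2.IsFinLocFreeOfDeg (Nat.card Q)
    (Spec.map (CommRingCat.ofHom (algebraMap (ULift.{u} ℤ) (MonoidAlgebra (ULift.{u} ℤ) (Multiplicative Q)))))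
  have hfin : Finite (Multiplicative Q) := inferInstanceAs (Finite Q)
  let b : Module.Basis (Multiplicative Q) (ULift.{u} ℤ) (MonoidAlgebra (ULift.{u} ℤ) (Multiplicative Q)) :=
    .ofRepr (MonoidAlgebra.coeffLinearEquiv (ULift.{u} ℤ))
  have h0 : Module.Finite (ULift.{u} ℤ) (MonoidAlgebra (ULift.{u} ℤ) (Multiplicative Q)) := Module.Finite.of_basis b
  have h1 : Module.Free (ULift.{u} ℤ) (MonoidAlgebra (ULift.{u} ℤ) (Multiplicative Q)) := Module.Free.of_basis b
  have h2 : IsNoetherianRing (ULift.{u} ℤ) := isNoetherianRing_of_ringEquiv ℤ ULift.ringEquiv.symm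
  refine ⟨⟨?_, ?_, ?_⟩, ?_⟩
  · rw [IsFinite.SpecMap_iff]
    exact RingHom.finite_algebraMap.mpr inferInstance
  · rw [Flat.SpecMap_iff]
    exact RingHom.flat_algebraMap_iff.mpr inferInstance
  · rw [HasRingHomProperty.Spec_iff (P := @LocallyOfFinitePresentation)]
    have : Algebra.FinitePresentation (ULift.{u} ℤ) (MonoidAlgebra (ULift.{u} ℤ) (Multiplicative Q)) :=
      Algebra.FinitePresentation.of_finiteType.mp inferInstance
    exact (RingHom.finitePresentation_algebraMap).mpr this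
  · intro y
    have h4 := Scheme.Hom.finrank_SpecMap_algebraMap (ULift.{u} ℤ)
      (MonoidAlgebra (ULift.{u} ℤ) (Multiplicative Q)) y
    rw [Module.rankAtStalk_eq_finrank_of_free] at h4
    have := Fintype.ofFinite (Multiplicative Q)
    have h5 := Module.finrank_eq_card_basis b
    refine h4.trans ?_
    change Module.finrank (ULift.{u} ℤ) (MonoidAlgebra (ULift.{u} ℤ) (Multiplicative Q)) = _
    rw [h5, ← Nat.card_eq_fintype_card]
    rfl

lemma cov_DS (r N : ℕ) (hN : 0 < N) : Cov ((𝟙 (Red.DS S (Fin r → ℤ))) ^ N) := by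
  rw [pow_DS]
  have hinj : Function.Injective (nsmulAddMonoidHom N : (Fin r → ℤ) →+ (Fin r → ℤ)) := by
    intro x y hxy
    funext i
    have h1 := congrFun hxy i
    have h2 : (N : ℤ) * x i = N * y i := by simpa using h1
    exact mul_left_cancel₀ (by exact_mod_cast hN.ne') h2
  have := Sga3.H827.DSFlat.isAffineHom_DSmap (nsmulAddMonoidHom N : (Fin r → ℤ) →+ (Fin r → ℤ)) S
  exact ⟨Sga3.H827.DSFlat.flat_DSmap _ S hinj, Sga3.H827.DSFlat.surjective_DSmap _ S hinj, inferInstance⟩

end DS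

section Iso

variable {S : Scheme.{u}}

lemma pow_conj {T D : Over S} [GrpObj T] [GrpObj D] (e : T ≅ D) [IsMonHom e.hom] (N : ℕ) :
    (𝟙 T) ^ N = e.hom ≫ ((𝟙 D) ^ N) ≫ e.inv := by
  rw [← cancel_mono e.hom, Category.assoc, Category.assoc, e.inv_hom_id, Category.comp_id, MonObj.comp_pow,
    Category.comp_id, MonObj.pow_comp, Category.id_comp]

end Iso

section Torus

variable {k : Type u} [Field k]

lemma cov_of_split {T : Over (Spec (CommRingCat.of k))} [GrpObj T] {r : ℕ}
    (h : Red.IsSplitTorusWith (Fin r → ℤ) T) (N : ℕ) (hN : 0 < N) : Cov ((𝟙 T) ^ N) := by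
  obtain ⟨e⟩ := h
  let e' : T ≅ Red.DS (Spec (CommRingCat.of k)) (Fin r → ℤ) := (Grp.forget _).mapIso e
  have : IsMonHom e'.hom := inferInstanceAs (IsMonHom e.hom.hom.hom)
  rw [pow_conj e' N]
  exact (Cov.of_isIso e'.hom).comp ((cov_DS r N hN).comp (Cov.of_isIso e'.inv))

lemma deg_of_split {T : Over (Spec (CommRingCat.of k))} [GrpObj T] {r : ℕ}
    (h : Red.IsSplitTorusWith (Fin r → ℤ) T) (N : ℕ) (hN : 0 < N) {K : Over (Spec (CommRingCat.of k))}
    {κ : K ⟶ T} (hK : AlgGrp.IsKernel κ ((𝟙 T) ^ N)) : Mor2.IsFinLocFreeOfDeg (N ^ r) K.hom := by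
  obtain ⟨e⟩ := h
  let e' : T ≅ Red.DS (Spec (CommRingCat.of k)) (Fin r → ℤ) := (Grp.forget _).mapIso e
  have : IsMonHom e'.hom := inferInstanceAs (IsMonHom e.hom.hom.hom)
  have h1 := isKernel_DS (S := Spec (CommRingCat.of k)) r N
  have h2 : AlgGrp.IsKernel (κ ≫ e'.hom) ((𝟙 (Red.DS (Spec (CommRingCat.of k)) (Fin r → ℤ))) ^ N) := by
    have hκm : Mono κ := Sga3.H739.KerPts.mono_of_isPullback hK
    have hD : ∀ {Z : Over (Spec (CommRingCat.of k))} (x : Z ⟶ T), (x ≫ e'.hom) ≫ (𝟙 (Red.DS (Spec (CommRingCat.of k))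
        (Fin r → ℤ))) ^ N = (x ≫ (𝟙 T) ^ N) ≫ e'.hom := by
      intro Z x
      rw [pow_conj e' N]
      simp
    have h1 : ∀ {Z : Over (Spec (CommRingCat.of k))}, (1 : Z ⟶ T) ≫ e'.hom = 1 := MonObj.one_comp _
    refine TorsSeq.isPullback_of_pts ?_ ?_ ?_
    · rw [hD κ, show κ ≫ (𝟙 T) ^ N = 1 from hK.w, h1]
      rfl
    · intro Z x y hxy
      obtain ⟨z, hz⟩ := Sga3.H739.KerPts.exists_lift hK (x ≫ e'.inv) (by
        rw [← cancel_mono e'.hom, ← hD, Category.assoc x, e'.inv_hom_id, Category.comp_id, hxy, h1,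
          toUnit_unique y (toUnit Z)]
        rfl)
      exact ⟨z, by rw [← Category.assoc, hz, Category.assoc, e'.inv_hom_id, Category.comp_id], toUnit_unique _ _⟩
    · intro Z x y h1 h2
      rwa [← cancel_mono κ, ← cancel_mono e'.hom, Category.assoc, Category.assoc]
  have : NeZero N := ⟨hN.ne'⟩
  have h3 := deg_DS (S := Spec (CommRingCat.of k)) (Fin r → ZMod N)
  have h4 : Nat.card (Fin r → ZMod N) = N ^ r := by
    rw [Nat.card_fun]
    simp
  rw [h4] at h3
  let ε : K ≅ Red.DS (Spec (CommRingCat.of k)) (Fin r → ZMod N) := h2.isoIsPullback _ _ h1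
  rw [← Over.w ε.hom]
  have : IsIso ε.hom.left := inferInstanceAs (IsIso ((Over.forget _).map ε.hom))
  exact Picfga.HilbPull.isFinLocFreeOfDeg_comp_iso h3

/-- `N`-th powers on a torus over a field are faithfully flat. -/
theorem cov_pow {T : Over (Spec (CommRingCat.of k))} [GrpObj T] (h : Red.IsTorus T) (N : ℕ) (hN : 0 < N) :
    Cov ((𝟙 T) ^ N) := by
  let f : Spec (CommRingCat.of (AlgebraicClosure k)) ⟶ Spec (CommRingCat.of k) :=
    Spec.map (CommRingCat.ofHom (algebraMap k (AlgebraicClosure k)))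
  have hTa := Sga3B.TorusAlgClosed.isAffineHom_of_isTorus h
  have hT1 : IsAffine T.left := isAffine_of_isAffineHom T.hom
  have hf1 : Surjective f := inferInstance
  have hf2 : Flat f := inferInstance
  obtain ⟨r, hr⟩ := Sga3B.TorusAlgClosed.exists_isSplitTorusWith (Sga3B.TorusBc.isTorus_bc f h)
  have h1 := cov_of_split hr N hN
  have h2 := Sga3C.ActBase.isPullback_map_left f ((𝟙 T) ^ N)
  have h3 : (Over.pullback f).map ((𝟙 T) ^ N) = (𝟙 (Red.bc f T)) ^ N := by
    exact map_pow_one f T N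
  rw [h3] at h2
  have h4 : Flat (pullback.fst T.hom f) := inferInstance
  have h5 : Surjective (pullback.fst T.hom f) := inferInstance
  obtain ⟨_, _, _⟩ := h1
  have h6 : Flat (pullback.fst T.hom f ≫ ((𝟙 T : T ⟶ T) ^ N).left) := by
    rw [← h2.w]
    infer_instance
  have h7 : Surjective (pullback.fst T.hom f ≫ ((𝟙 T : T ⟶ T) ^ N).left) := by
    rw [← h2.w]
    infer_instance
  exact ⟨Sga3C.FlatImage2.flat_of_comp_flat_surjective (pullback.fst T.hom f) _, Surjective.of_comp
    (pullback.fst T.hom f) _, inferInstance⟩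

/-- **The degree of the `N`-torsion of a torus over a field.** -/
theorem deg_torus {T : Over (Spec (CommRingCat.of k))} [GrpObj T] (h : Red.IsTorus T) (N : ℕ) (hN : 0 < N) (t : ℕ)
    (ht : topologicalKrullDim ↥T.left = t) {K : Over (Spec (CommRingCat.of k))}
    {κ : K ⟶ T} (hK : AlgGrp.IsKernel κ ((𝟙 T) ^ N)) : Mor2.IsFinLocFreeOfDeg (N ^ t) K.hom := by
  let f : Spec (CommRingCat.of (AlgebraicClosure k)) ⟶ Spec (CommRingCat.of k) :=
    Spec.map (CommRingCat.ofHom (algebraMap k (AlgebraicClosure k)))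
  have hTs := Sga3B.TorusAlgClosed.smooth_of_isTorus h
  obtain ⟨r, hr⟩ := Sga3B.TorusAlgClosed.exists_isSplitTorusWith (Sga3B.TorusBc.isTorus_bc f h)
  have h1 := Sga3.H816.TorusDim.topologicalKrullDim_of_split hr
  have h2 : topologicalKrullDim ↥(Red.bc f T).left = topologicalKrullDim ↥T.left :=
    Sga3B.DimFib.topologicalKrullDim_baseChange_eq (k := CommRingCat.of k)
      (Ω := CommRingCat.of (AlgebraicClosure k)) (Field.toIsField _) (Field.toIsField _) T.hom f
      (pullback.fst T.hom f) (pullback.snd T.hom f) (IsPullback.of_hasPullback _ _)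
  have h3 : r = t := by
    rw [h2, ht] at h1
    exact_mod_cast h1.symm
  subst h3
  have h4 : AlgGrp.IsKernel (Q := Red.bc f T) ((Over.pullback f).map κ) ((𝟙 (Red.bc f T)) ^ N) := by
    have h5 : (Over.pullback f).map ((𝟙 T) ^ N) = (𝟙 (Red.bc f T)) ^ N := by
      exact map_pow_one f T N
    rw [← h5]
    exact isKernel_bc f hK
  have h5 := deg_of_split hr N hN h4
  exact Picfga.FiniteDescent.isFinLocFreeOfDeg_of_isPullback (IsPullback.of_hasPullback K.hom f).flip h5

end Torus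

end K409.TorsTorus
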